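import Mathlib

/-!
Group-theoretic part of the short presentation of three-dimensional special unitary groups:
relations on two elements `h`, `u` bounding the group generated by the `h`-conjugates of `u`.
-/

set_option autoImplicit false
set_option linter.unusedSectionVars false
set_option linter.style.haveILetI false

namespace Cfsg.Agent.Small.SU3Pres

open Subgroup
open scoped commutatorElement

variable {G : Type*} [Group G]

/-- Conjugate by an integral power. -/
def cz (h v : G) (k : ℤ) : G := h ^ k * v * (h ^ k)⁻¹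

theorem cz_zero (h v : G) : cz h v 0 = v := by simp [cz]

theorem cz_cz (h v : G) (a b : ℤ) : cz h (cz h v a) b = cz h v (b + a) := by
  simp only [cz, zpow_add]; group

theorem cz_one (h : G) (k : ℤ) : cz h 1 k = 1 := by simp [cz]

theorem cz_mul (h a b : G) (k : ℤ) : cz h (a * b) k = cz h a k * cz h b k := by
  simp only [cz]; group

theorem cz_inv (h a : G) (k : ℤ) : cz h a⁻¹ k = (cz h a k)⁻¹ := by
  simp only [cz]; group

theorem cz_pow (h a : G) (k : ℤ) (n : ℕ) : cz h (a ^ n) k = (cz h a k) ^ n := by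
  simp only [cz, conj_pow]

theorem cz_comm (h a b : G) (k : ℤ) : cz h ⁅a, b⁆ k = ⁅cz h a k, cz h b k⁆ := by
  simp only [cz, commutatorElement_def]; group

theorem map_cz {H : Type*} [Group H] (f : G →* H) (h v : G) (k : ℤ) :
    f (cz h v k) = cz (f h) (f v) k := by simp [cz, map_zpow]

theorem commute_cz {a b : G} (hab : Commute a b) (h : G) (k : ℤ) :
    Commute (cz h a k) (cz h b k) := hab.map (MulAut.conj (h ^ k)).toMonoidHom

theorem cz_period {h : G} {N : ℕ} (hN : h ^ N = 1) (v : G) (k : ℤ) :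
    cz h v k = cz h v (k % N) := by
  have h1 : h ^ k = h ^ (k % N) := by
    conv_lhs => rw [← Int.emod_add_mul_ediv k N, zpow_add, zpow_mul, zpow_natCast, hN, one_zpow, mul_one]
  simp only [cz, h1]

theorem cz_mem_closure {h : G} {S : Set G} {k : ℤ} (hS : ∀ s ∈ S, cz h s k ∈ closure S) {v : G}
    (hv : v ∈ closure S) : cz h v k ∈ closure S := by
  refine closure_induction (p := fun v _ => cz h v k ∈ closure S) hS ?_ ?_ ?_ hv
  · rw [cz_one]; exact one_mem _
  · intro a b _ _ ha hb; rw [cz_mul]; exact mul_mem ha hb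
  · intro a _ ha; rw [cz_inv]; exact inv_mem ha

/-- Adjoining one element normalising a finite subgroup and powering into it. -/
theorem card_extend (H : Subgroup G) [Finite H] (w : G) {p : ℕ} (hp : 0 < p)
    (hw : ∀ a ∈ H, w * a * w⁻¹ ∈ H) (hwp : w ^ p ∈ H) :
    Finite (H ⊔ closure {w} : Subgroup G) ∧
      Nat.card (H ⊔ closure {w} : Subgroup G) ≤ Nat.card H * p := by
  have hwn : ∀ (i : ℕ) (a : G), a ∈ H → w ^ i * a * (w ^ i)⁻¹ ∈ H := by
    intro i
    induction i with
    | zero => intro a ha; simpa using ha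
    | succ i ih =>
      intro a ha
      have := hw _ (ih a ha)
      rwa [pow_succ', show w * w ^ i * a * (w * w ^ i)⁻¹ = w * (w ^ i * a * (w ^ i)⁻¹) * w⁻¹ by group]
  let mk : H × Fin p → G := fun t => (t.1 : G) * w ^ (t.2 : ℕ)
  have hred : ∀ (a : G), a ∈ H → ∀ n : ℕ, a * w ^ n ∈ Set.range mk := by
    intro a ha n
    have hb : a * (w ^ p) ^ (n / p) ∈ H := mul_mem ha (pow_mem hwp _)
    refine ⟨(⟨_, hb⟩, ⟨n % p, Nat.mod_lt _ hp⟩), ?_⟩
    simp only [mk]
    rw [mul_assoc, ← pow_mul, ← pow_add, Nat.div_add_mod]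
  have hmul : ∀ a b : G, a ∈ Set.range mk → b ∈ Set.range mk → a * b ∈ Set.range mk := by
    rintro _ _ ⟨⟨a, i⟩, rfl⟩ ⟨⟨b, j⟩, rfl⟩
    have e : (a : G) * w ^ (i : ℕ) * ((b : G) * w ^ (j : ℕ)) =
        (a : G) * (w ^ (i : ℕ) * b * (w ^ (i : ℕ))⁻¹) * w ^ ((i : ℕ) + j) := by
      rw [pow_add]; group
    simp only [mk]
    rw [e]
    exact hred _ (mul_mem a.2 (hwn _ _ b.2)) _
  let T : Subgroup G :=
    { carrier := Set.range mk
      one_mem' := by simpa using hred 1 (one_mem _) 0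
      mul_mem' := fun {a b} ha hb => hmul a b ha hb
      inv_mem' := by
        rintro _ ⟨⟨a, i⟩, rfl⟩
        have e : ((a : G) * w ^ (i : ℕ))⁻¹ = (w ^ p)⁻¹ * w ^ (p - (i : ℕ)) * (a : G)⁻¹ := by
          rw [mul_inv_rev]
          congr 1
          rw [eq_inv_mul_iff_mul_eq]
          have : w ^ p = w ^ (p - (i : ℕ)) * w ^ (i : ℕ) := by
            rw [← pow_add, Nat.sub_add_cancel i.2.le]
          rw [this]; group
        show (mk (a, i))⁻¹ ∈ Set.range mk
        simp only [mk]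
        rw [e]
        exact hmul _ _ (hred _ (inv_mem hwp) _) (by simpa using hred _ (inv_mem a.2) 0) }
  have hle : H ⊔ closure {w} ≤ T := by
    refine sup_le (fun a ha => by show a ∈ Set.range mk; simpa using hred a ha 0) ((closure_le _).2 ?_)
    rintro x hx
    rw [Set.mem_singleton_iff.1 hx]
    obtain ⟨t, ht⟩ := hred 1 (one_mem _) 1
    exact ⟨t, by rw [ht, one_mul, pow_one]⟩
  haveI : Finite T := (Set.finite_range mk).to_subtype
  refine ⟨Finite.of_injective _ (Subgroup.inclusion_injective hle), ?_⟩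
  calc Nat.card (H ⊔ closure {w} : Subgroup G)
      ≤ Nat.card T := Nat.card_le_card_of_injective _ (Subgroup.inclusion_injective hle)
    _ ≤ Nat.card (H × Fin p) :=
        Nat.card_le_card_of_surjective (Set.rangeFactorization mk) Set.rangeFactorization_surjective
    _ = Nat.card H * p := by rw [Nat.card_prod, Nat.card_fin]

/-- Adjoining `e` elements one by one. -/
theorem card_extend_range (H : Subgroup G) [Finite H] (a : ℕ → G) (e : ℕ) {p : ℕ} (hp : 0 < p)
    (hnorm : ∀ i < e, ∀ s ∈ H ⊔ closure (a '' Set.Iio i), a i * s * (a i)⁻¹ ∈ H ⊔ closure (a '' Set.Iio i))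
    (hpow : ∀ i < e, a i ^ p ∈ H) :
    Finite (H ⊔ closure (a '' Set.Iio e) : Subgroup G) ∧
      Nat.card (H ⊔ closure (a '' Set.Iio e) : Subgroup G) ≤ Nat.card H * p ^ e := by
  induction e with
  | zero =>
    have h0 : (a '' Set.Iio 0) = ∅ := by simp
    rw [h0, Subgroup.closure_empty, sup_bot_eq]
    exact ⟨inferInstance, by simp⟩
  | succ e ih =>
    obtain ⟨hf, hc⟩ := ih (fun i hi => hnorm i (by omega)) (fun i hi => hpow i (by omega))
    have hset : a '' Set.Iio (e + 1) = a '' Set.Iio e ∪ {a e} := by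
      rw [← Set.image_singleton, ← Set.image_union]
      congr 1
      ext k; simp
    have hs : H ⊔ closure (a '' Set.Iio (e + 1)) = (H ⊔ closure (a '' Set.Iio e)) ⊔ closure {a e} := by
      rw [hset, Subgroup.closure_union, sup_assoc]
    rw [hs]
    obtain ⟨hf', hc'⟩ := card_extend (H ⊔ closure (a '' Set.Iio e)) (a e) hp (hnorm e (by omega))
      (Subgroup.mem_sup_left (hpow e (by omega)))
    refine ⟨hf', hc'.trans ?_⟩
    calc Nat.card (H ⊔ closure (a '' Set.Iio e) : Subgroup G) * p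
        ≤ Nat.card H * p ^ e * p := Nat.mul_le_mul_right p hc
      _ = Nat.card H * p ^ (e + 1) := by ring

/-- The commutator of `u` with its first conjugate. -/
def zel (h u : G) : G := ⁅u, cz h u 1⁆

/-- The subgroup of the conjugates of `zel`. -/
def zsub (h u : G) : Subgroup G := closure (Set.range (cz h (zel h u)))

/-- The subgroup of the conjugates of `u`. -/
def usub (h u : G) : Subgroup G := closure (Set.range (cz h u))

/-- The relations on `h` and `u`. -/
structure Rels (h u : G) (m l : ℤ) (p e N : ℕ) : Prop where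
  p_pos : 0 < p
  N_pos : 0 < N
  hN : h ^ N = 1
  zx : cz h (zel h u) m = cz h (zel h u) 2
  zy : cz h (zel h u) (m * l) =
    zel h u * cz h (zel h u) 1 ^ 2 * cz h (zel h u) 2
  z1 : Commute (zel h u) (cz h (zel h u) 1)
  z2 : Commute (zel h u) (cz h (zel h u) 2)
  uz : ∀ k : ℤ, -2 ≤ k → k ≤ 1 → Commute u (cz h (zel h u) k)
  uy : ∃ c ∈ zsub h u, cz h u (m * l) = u * cz h u m * c
  ux : Commute u (cz h u m)
  ux1 : ⁅u, cz h u (m + 1)⁆ ∈ zsub h u
  u2 : cz h u 2 ∈ closure ((Set.range fun n : ℤ => cz h u (m * n)) ∪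
    (Set.range fun n : ℤ => cz h u (m * n + 1)) ∪ Set.range (cz h (zel h u)))
  up : u ^ p ∈ zsub h u
  ue : cz h u (m * e) ∈ closure ((fun k : ℕ => cz h u (m * k)) '' Set.Iio e) ⊔ zsub h u
  ze : cz h (zel h u) e ∈ closure ((fun k : ℕ => cz h (zel h u) k) '' Set.Iio e)

namespace Rels

variable {h u : G} {m l : ℤ} {p e N : ℕ} (R : Rels h u m l p e N)

local notation "z" => zel h u
local notation "Z" => zsub h u
local notation "U" => usub h u

theorem z_mem_u : z ∈ U := by
  have h0 : u ∈ U := subset_closure ⟨0, cz_zero h u⟩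
  have h1 : cz h u 1 ∈ U := subset_closure ⟨1, rfl⟩
  rw [zel, commutatorElement_def]
  exact mul_mem (mul_mem (mul_mem h0 h1) (inv_mem h0)) (inv_mem h1)

theorem conj_u {v : G} (hv : v ∈ U) (k : ℤ) : cz h v k ∈ U := by
  refine cz_mem_closure ?_ hv
  rintro _ ⟨j, rfl⟩
  rw [cz_cz]; exact subset_closure ⟨_, rfl⟩

theorem conj_z {v : G} (hv : v ∈ Z) (k : ℤ) : cz h v k ∈ Z := by
  refine cz_mem_closure ?_ hv
  rintro _ ⟨j, rfl⟩
  rw [cz_cz]; exact subset_closure ⟨_, rfl⟩

theorem z_le_u : Z ≤ U := (closure_le _).2 (by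
  rintro _ ⟨k, rfl⟩; exact conj_u z_mem_u k)

include R

theorem zy' (k : ℤ) : cz h z (m * l + k) = cz h z k * cz h z (k + 1) ^ 2 * cz h z (k + 2) := by
  have h1 := congrArg (fun v => cz h v k) R.zy
  simp only [cz_mul, cz_pow, cz_cz] at h1
  rw [add_comm (m * l) k]
  exact h1

theorem shiftQ {a b : ℤ} (hh : Commute z (cz h z (b - a))) : Commute (cz h z a) (cz h z b) := by
  have h1 := commute_cz hh h a
  rwa [cz_cz, add_sub_cancel] at h1

theorem z_comm (k : ℤ) : Commute z (cz h z k) := by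
  suffices ∀ n : ℕ, 2 ≤ n → ∀ k : ℤ, |k| ≤ n → Commute z (cz h z k) from
    this (k.natAbs + 2) (by omega) k (by rw [Int.abs_eq_natAbs]; omega)
  have hneg : ∀ j : ℤ, Commute z (cz h z j) → Commute z (cz h z (-j)) := fun j hj => by
    have h1 := commute_cz hj h (-j)
    rw [cz_cz, neg_add_cancel, cz_zero] at h1
    exact h1.symm
  intro n hn
  induction n, hn using Nat.le_induction with
  | base =>
    intro k hk
    obtain ⟨hk1, hk2⟩ := abs_le.1 hk
    push_cast at hk1 hk2
    rcases (show k = -2 ∨ k = -1 ∨ k = 0 ∨ k = 1 ∨ k = 2 by omega) with rfl | rfl | rfl | rfl | rfl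
    · exact hneg 2 R.z2
    · exact hneg 1 R.z1
    · rw [cz_zero]
    · exact R.z1
    · exact R.z2
  | succ n hn ih =>
    intro k hk
    obtain ⟨hk1, hk2⟩ := abs_le.1 hk
    push_cast at hk1 hk2
    by_cases hlt : |k| ≤ n
    · exact ih k hlt
    have key : Commute z (cz h z ((n : ℤ) + 1)) := by
      set j : ℤ := (n : ℤ) - 1 with hj
      have hQ : ∀ i : ℤ, -(n : ℤ) ≤ i → i ≤ n → Commute z (cz h z i) := fun i h1 h2 =>
        ih i (abs_le.2 ⟨h1, h2⟩)
      have h1 := commute_cz (hQ j (by omega) (by omega)) h (m * l)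
      rw [cz_cz, R.zy, R.zy' j] at h1
      have c11 : Commute (cz h z 1) (cz h z j) := R.shiftQ (hQ _ (by omega) (by omega))
      have c12 : Commute (cz h z 1) (cz h z (j + 1)) := R.shiftQ (hQ _ (by omega) (by omega))
      have c13 : Commute (cz h z 1) (cz h z (j + 2)) := R.shiftQ (hQ _ (by omega) (by omega))
      have c21 : Commute (cz h z 2) (cz h z j) := R.shiftQ (hQ _ (by omega) (by omega))
      have c22 : Commute (cz h z 2) (cz h z (j + 1)) := R.shiftQ (hQ _ (by omega) (by omega))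
      have c23 : Commute (cz h z 2) (cz h z (j + 2)) := R.shiftQ (hQ _ (by omega) (by omega))
      have b1 : Commute (cz h z 1) (cz h z j * cz h z (j + 1) ^ 2 * cz h z (j + 2)) :=
        (c11.mul_right (c12.pow_right 2)).mul_right c13
      have b2 : Commute (cz h z 2) (cz h z j * cz h z (j + 1) ^ 2 * cz h z (j + 2)) :=
        (c21.mul_right (c22.pow_right 2)).mul_right c23
      have b0 : Commute z (cz h z j * cz h z (j + 1) ^ 2 * cz h z (j + 2)) := by
        have := (h1.mul_left b2.inv_left).mul_left (b1.pow_left 2).inv_left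
        simpa [mul_assoc] using this
      have b3 : Commute z (cz h z j * cz h z (j + 1) ^ 2) :=
        (hQ j (by omega) (by omega)).mul_right ((hQ (j + 1) (by omega) (by omega)).pow_right 2)
      have := b3.inv_right.mul_right b0
      rw [inv_mul_cancel_left, show j + 2 = (n : ℤ) + 1 by omega] at this
      exact this
    rcases (show k = (n : ℤ) + 1 ∨ k = -((n : ℤ) + 1) by
      rw [not_le] at hlt
      rcases lt_abs.1 hlt with h' | h' <;> omega) with rfl | rfl
    · exact key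
    · exact hneg _ key

theorem zz_comm (a b : ℤ) : Commute (cz h z a) (cz h z b) := R.shiftQ (R.z_comm _)

theorem zsub_comm {v w : G} (hv : v ∈ Z) (hw : w ∈ Z) : Commute v w := by
  refine closure_induction (p := fun v _ => Commute v w) ?_ (Commute.one_left w)
    (fun _ _ _ _ h1 h2 => h1.mul_left h2) (fun _ _ h1 => h1.inv_left) hv
  rintro _ ⟨a, rfl⟩
  refine closure_induction (p := fun w _ => Commute (cz h z a) w) ?_
    (Commute.one_right _) (fun _ _ _ _ h1 h2 => h1.mul_right h2) (fun _ _ h1 => h1.inv_right) hw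
  rintro _ ⟨b, rfl⟩
  exact R.zz_comm a b

theorem u_comm_z (k : ℤ) : Commute u (cz h z k) := by
  obtain ⟨c, hc, huy⟩ := R.uy
  have hxz : ∀ j : ℤ, Commute u (cz h z (j - 2)) → Commute (cz h u m) (cz h z j) := by
    intro j hj
    have h1 := commute_cz hj h m
    rw [cz_cz, add_comm m (j - 2), ← cz_cz h z m (j - 2), R.zx, cz_cz, sub_add_cancel] at h1
    exact h1
  have up : ∀ n : ℕ, ∀ j : ℤ, -2 ≤ j → j ≤ 1 + n → Commute u (cz h z j) := by
    intro n
    induction n with
    | zero => intro j h1 h2; exact R.uz j h1 (by simpa using h2)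
    | succ n ih =>
      intro j h1 h2
      by_cases hle : j ≤ 1 + n
      · exact ih j h1 hle
      push_cast at h2
      obtain ⟨i, rfl⟩ : ∃ i, j = i + 2 := ⟨j - 2, by omega⟩
      have hy := commute_cz (ih i (by omega) (by omega)) h (m * l)
      rw [cz_cz, huy, R.zy' i] at hy
      have cc : Commute c (cz h z i * cz h z (i + 1) ^ 2 * cz h z (i + 2)) :=
        R.zsub_comm hc (mul_mem (mul_mem (subset_closure (Set.mem_range_self i))
          (pow_mem (subset_closure (Set.mem_range_self (i + 1)) : cz h z (i + 1) ∈ Z) 2))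
          (subset_closure (Set.mem_range_self (i + 2))))
      have cx : Commute (cz h u m) (cz h z i * cz h z (i + 1) ^ 2 * cz h z (i + 2)) :=
        ((hxz i (ih _ (by omega) (by omega))).mul_right
          ((hxz (i + 1) (ih _ (by omega) (by omega))).pow_right 2)).mul_right
          (hxz (i + 2) (by rw [add_sub_cancel_right]; exact ih _ (by omega) (by omega)))
      have b0 : Commute u (cz h z i * cz h z (i + 1) ^ 2 * cz h z (i + 2)) := by
        have := (hy.mul_left cc.inv_left).mul_left cx.inv_left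
        simpa [mul_assoc] using this
      have b3 : Commute u (cz h z i * cz h z (i + 1) ^ 2) :=
        (ih i (by omega) (by omega)).mul_right ((ih (i + 1) (by omega) (by omega)).pow_right 2)
      have := b3.inv_right.mul_right b0
      rwa [inv_mul_cancel_left] at this
  rw [cz_period R.hN]
  have h1 : 0 ≤ k % (N : ℤ) := Int.emod_nonneg _ (by have := R.N_pos; omega)
  exact up (k % (N : ℤ)).toNat _ (by omega) (by omega)

theorem central {c v : G} (hc : c ∈ Z) (hv : v ∈ U) : Commute c v := by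
  refine closure_induction (p := fun v _ => Commute c v) ?_ (Commute.one_right _)
    (fun _ _ _ _ h1 h2 => h1.mul_right h2) (fun _ _ h1 => h1.inv_right) hv
  rintro _ ⟨a, rfl⟩
  refine closure_induction (p := fun c _ => Commute c (cz h u a)) ?_
    (Commute.one_left _) (fun _ _ _ _ h1 h2 => h1.mul_left h2) (fun _ _ h1 => h1.inv_left) hc
  rintro _ ⟨b, rfl⟩
  have h1 := commute_cz (R.u_comm_z (b - a)) h a
  rw [cz_cz, add_sub_cancel] at h1
  exact h1.symm

theorem conj_fix {c v : G} (hc : c ∈ Z) (hv : v ∈ U) : v * c * v⁻¹ = c := by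
  rw [← (R.central hc hv).eq, mul_inv_cancel_right]

theorem M_mul {a b c : G} (ha : a ∈ U) (h1 : ⁅a, c⁆ ∈ Z) (h2 : ⁅b, c⁆ ∈ Z) :
    ⁅a * b, c⁆ ∈ Z := by
  have e1 : ⁅a * b, c⁆ = (a * ⁅b, c⁆ * a⁻¹) * ⁅a, c⁆ := by
    simp only [commutatorElement_def]; group
  rw [e1, R.conj_fix h2 ha]
  exact mul_mem h2 h1

theorem M_cancel_right {a b c : G} (ha : a ∈ U) (h1 : ⁅a * b, c⁆ ∈ Z) (h2 : ⁅b, c⁆ ∈ Z) :
    ⁅a, c⁆ ∈ Z := by
  have e1 : ⁅a, c⁆ = (a * ⁅b, c⁆ * a⁻¹)⁻¹ * ⁅a * b, c⁆ := by
    simp only [commutatorElement_def]; group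
  rw [e1, R.conj_fix h2 ha]
  exact mul_mem (inv_mem h2) h1

theorem M_cancel_left {a b c : G} (ha : a ∈ U) (h1 : ⁅a * b, c⁆ ∈ Z) (h2 : ⁅a, c⁆ ∈ Z) :
    ⁅b, c⁆ ∈ Z := by
  have e1 : ⁅b, c⁆ = a⁻¹ * (⁅a * b, c⁆ * ⁅a, c⁆⁻¹) * a⁻¹⁻¹ := by
    simp only [commutatorElement_def]; group
  rw [e1, R.conj_fix (mul_mem h1 (inv_mem h2)) (inv_mem ha)]
  exact mul_mem h1 (inv_mem h2)

theorem M_symm {a c : G} (h1 : ⁅a, c⁆ ∈ Z) : ⁅c, a⁆ ∈ Z := by
  rw [← commutatorElement_inv a c]; exact inv_mem h1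

theorem M_z {a c : G} (ha : a ∈ Z) (hc : c ∈ U) : ⁅a, c⁆ ∈ Z := by
  rw [commutatorElement_eq_one_iff_commute.2 (R.central ha hc)]; exact one_mem _

theorem M_shift {a c : G} (k : ℤ) (h1 : ⁅a, c⁆ ∈ Z) : ⁅cz h a k, cz h c k⁆ ∈ Z := by
  rw [← cz_comm]; exact conj_z h1 k

theorem D_nat (r : ℤ) (hr : r = 0 ∨ r = 1) (n : ℕ) : ⁅u, cz h u (m * n + r)⁆ ∈ Z := by
  obtain ⟨c, hc, huy⟩ := R.uy
  have hu : u ∈ U := subset_closure ⟨0, cz_zero h u⟩
  have hj : ∀ j, cz h u j ∈ U := fun j => subset_closure ⟨j, rfl⟩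
  induction n using Nat.twoStepInduction with
  | zero =>
    rcases hr with rfl | rfl
    · simp [cz_zero]
    · rw [Nat.cast_zero, mul_zero, zero_add]; exact subset_closure ⟨0, cz_zero _ _⟩
  | one =>
    rcases hr with rfl | rfl
    · rw [Nat.cast_one, mul_one, add_zero, commutatorElement_eq_one_iff_commute.2 R.ux]
      exact one_mem _
    · rw [Nat.cast_one, mul_one]; exact R.ux1
  | more n ih1 ih2 =>
    set A : ℤ := m * ((n : ℤ) + 1) + r with hA
    have hB : m * (((n + 2 : ℕ)) : ℤ) + r = A + m := by rw [hA]; push_cast; ring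
    rw [hB]
    have ih2' : ⁅u, cz h u A⁆ ∈ Z := by simpa [hA] using ih2
    have x1 : ⁅cz h u m, cz h u A⁆ ∈ Z := by
      have := R.M_shift m ih1
      rw [cz_cz, show m + (m * (n : ℤ) + r) = A by rw [hA]; ring] at this
      exact this
    have x2 : ⁅cz h u m, cz h u (A + m)⁆ ∈ Z := by
      have := R.M_shift m ih2'
      rw [cz_cz, add_comm m A] at this
      exact this
    have hc' : cz h c A ∈ Z := conj_z hc A
    set W := cz h u A * cz h u (A + m) * cz h c A with hW
    have hWU : W ∈ U := mul_mem (mul_mem (hj _) (hj _)) (z_le_u hc')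
    have hyA : cz h u (m * l + A) = W := by
      have := congrArg (fun v => cz h v A) huy
      simp only [cz_mul, cz_cz] at this
      rw [add_comm (m * l) A, this]
    have y1 : ⁅u * cz h u m * c, W⁆ ∈ Z := by
      have := R.M_shift (m * l) ih2'
      rwa [cz_cz, huy, hyA] at this
    have y2 : ⁅u * cz h u m, W⁆ ∈ Z :=
      R.M_cancel_right (mul_mem hu (hj _)) y1 (R.M_z hc hWU)
    have xW : ⁅cz h u m, W⁆ ∈ Z := by
      refine R.M_symm (R.M_mul (mul_mem (hj _) (hj _)) (R.M_mul (hj _) (R.M_symm x1) (R.M_symm x2)) ?_)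
      exact R.M_z hc' (hj _)
    have y3 := R.M_symm (R.M_cancel_right hu y2 xW)
    have y4 : ⁅cz h u A * cz h u (A + m), u⁆ ∈ Z :=
      R.M_cancel_right (mul_mem (hj _) (hj _)) y3 (R.M_z hc' hu)
    exact R.M_symm (R.M_cancel_left (hj _) y4 (R.M_symm ih2'))

theorem D_int (r : ℤ) (hr : r = 0 ∨ r = 1) (n : ℤ) : ⁅u, cz h u (m * n + r)⁆ ∈ Z := by
  have hper : cz h u (m * n + r) = cz h u (m * ((n % N).toNat : ℤ) + r) := by
    have h1 : 0 ≤ n % (N : ℤ) := Int.emod_nonneg _ (by have := R.N_pos; omega)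
    rw [Int.toNat_of_nonneg h1, cz_period R.hN, cz_period R.hN u (m * (n % (N : ℤ)) + r)]
    congr 1
    rw [Int.add_emod, Int.mul_emod, Int.add_emod (m * (n % (N : ℤ))), Int.mul_emod m (n % (N : ℤ)),
      Int.emod_emod]
  rw [hper]; exact R.D_nat r hr _

/-- The `h`-stable generating set. -/
theorem u_le : U ≤ closure ((Set.range fun n : ℤ => cz h u (m * n)) ∪
    (Set.range fun n : ℤ => cz h u (m * n + 1)) ∪ Set.range (cz h z)) := by
  set S := (Set.range fun n : ℤ => cz h u (m * n)) ∪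
    (Set.range fun n : ℤ => cz h u (m * n + 1)) ∪ Set.range (cz h z) with hS
  have hm : ∀ (j : ℤ) (v : G), v ∈ closure S → cz h v (m * j) ∈ closure S := by
    intro j v hv
    refine cz_mem_closure ?_ hv
    rintro _ ((⟨n, rfl⟩ | ⟨n, rfl⟩) | ⟨n, rfl⟩) <;> simp only [cz_cz] <;> refine subset_closure ?_
    · exact Or.inl (Or.inl ⟨j + n, by simp only [mul_add]⟩)
    · exact Or.inl (Or.inr ⟨j + n, by simp only [mul_add, add_assoc]⟩)
    · exact Or.inr ⟨_, rfl⟩
  have h1 : ∀ v ∈ closure S, cz h v 1 ∈ closure S := by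
    intro v hv
    refine cz_mem_closure ?_ hv
    rintro _ ((⟨n, rfl⟩ | ⟨n, rfl⟩) | ⟨n, rfl⟩) <;> simp only [cz_cz]
    · exact subset_closure (Or.inl (Or.inr ⟨n, by simp only [add_comm]⟩))
    · have := hm n _ R.u2
      rwa [cz_cz, show m * n + 2 = 1 + (m * n + 1) by ring] at this
    · exact subset_closure (Or.inr ⟨_, rfl⟩)
  have hu : u ∈ closure S :=
    subset_closure (Or.inl (Or.inl ⟨0, by simp [cz_zero]⟩))
  have hk : ∀ k : ℕ, cz h u k ∈ closure S := by
    intro k
    induction k with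
    | zero => simpa [cz_zero] using hu
    | succ k ih =>
      have := h1 _ ih
      rwa [cz_cz, add_comm, ← Nat.cast_succ] at this
  refine (closure_le _).2 ?_
  rintro _ ⟨j, rfl⟩
  rw [SetLike.mem_coe, cz_period R.hN]
  have h0 : 0 ≤ j % (N : ℤ) := Int.emod_nonneg _ (by have := R.N_pos; omega)
  have := hk (j % (N : ℤ)).toNat
  rwa [Int.toNat_of_nonneg h0] at this

theorem M_all {v w : G} (hv : v ∈ U) (hw : w ∈ U) : ⁅v, w⁆ ∈ Z := by
  have hu : u ∈ U := subset_closure ⟨0, cz_zero h u⟩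
  have hgen : ∀ (r r' : ℤ), (r = 0 ∨ r = 1) → (r' = 0 ∨ r' = 1) → ∀ n n' : ℤ,
      ⁅cz h u (m * n + r), cz h u (m * n' + r')⁆ ∈ Z := by
    intro r r' hr hr' n n'
    rcases hr with rfl | rfl
    · have := R.M_shift (m * n) (R.D_int r' hr' (n' - n))
      rwa [cz_cz, add_zero, show m * n + (m * (n' - n) + r') = m * n' + r' by ring] at *
    · rcases hr' with rfl | rfl
      · refine R.M_symm ?_
        have := R.M_shift (m * n') (R.D_int 1 (Or.inr rfl) (n - n'))
        rwa [cz_cz, show m * n' + (m * (n - n') + 1) = m * n + 1 by ring, ← add_zero (m * n')] at this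
      · have := R.M_shift (m * n + 1) (R.D_int 0 (Or.inl rfl) (n' - n))
        rwa [cz_cz, show m * n + 1 + (m * (n' - n) + 0) = m * n' + 1 by ring] at this
  set S := (Set.range fun n : ℤ => cz h u (m * n)) ∪
    (Set.range fun n : ℤ => cz h u (m * n + 1)) ∪ Set.range (cz h z) with hS
  have hSU : ∀ s ∈ S, s ∈ U := by
    rintro _ ((⟨n, rfl⟩ | ⟨n, rfl⟩) | ⟨n, rfl⟩)
    · exact subset_closure ⟨_, rfl⟩
    · exact subset_closure ⟨_, rfl⟩
    · exact conj_u z_mem_u n
  have hSs : ∀ s ∈ S, ∀ s' ∈ S, ⁅s, s'⁆ ∈ Z := by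
    intro s hs s' hs'
    have hsU := hSU s hs
    have hsU' := hSU s' hs'
    rcases hs with (⟨n, rfl⟩ | ⟨n, rfl⟩) | hs
    rotate_left 2
    · exact R.M_z (subset_closure hs) hsU'
    all_goals rcases hs' with (⟨n', rfl⟩ | ⟨n', rfl⟩) | hs'
    rotate_left 2
    · exact R.M_symm (R.M_z (subset_closure hs') hsU)
    rotate_left 2
    · exact R.M_symm (R.M_z (subset_closure hs') hsU)
    · simpa using hgen 0 0 (Or.inl rfl) (Or.inl rfl) n n'
    · simpa using hgen 0 1 (Or.inl rfl) (Or.inr rfl) n n'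
    · simpa using hgen 1 0 (Or.inr rfl) (Or.inl rfl) n n'
    · simpa using hgen 1 1 (Or.inr rfl) (Or.inr rfl) n n'
  have h1 : ∀ s ∈ S, ∀ w ∈ closure S, ⁅w, s⁆ ∈ Z ∧ w ∈ U := by
    intro s hs w hw
    refine closure_induction (p := fun w _ => ⁅w, s⁆ ∈ Z ∧ w ∈ U) ?_ ?_ ?_ ?_ hw
    · intro t ht; exact ⟨hSs t ht s hs, hSU t ht⟩
    · simp
    · intro a b _ _ ha hb; exact ⟨R.M_mul ha.2 ha.1 hb.1, mul_mem ha.2 hb.2⟩
    · intro a _ ha
      refine ⟨R.M_cancel_left (a := a) ha.2 ?_ ha.1, inv_mem ha.2⟩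
      rw [mul_inv_cancel, commutatorElement_one_left]; exact one_mem _
  refine (closure_induction (p := fun v _ => ⁅v, w⁆ ∈ Z ∧ v ∈ U) ?_ ?_ ?_ ?_ (R.u_le hv)).1
  · intro s hs; exact ⟨R.M_symm (h1 s hs w (R.u_le hw)).1, hSU s hs⟩
  · simp
  · intro a b _ _ ha hb; exact ⟨R.M_mul ha.2 ha.1 hb.1, mul_mem ha.2 hb.2⟩
  · intro a _ ha
    refine ⟨R.M_cancel_left (a := a) ha.2 ?_ ha.1, inv_mem ha.2⟩
    rw [mul_inv_cancel, commutatorElement_one_left]; exact one_mem _

theorem z_pow : z ^ p = 1 := by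
  have hu : u ∈ U := subset_closure ⟨0, cz_zero h u⟩
  have hu1 : cz h u 1 ∈ U := subset_closure ⟨1, rfl⟩
  have key : ∀ n : ℕ, ⁅u ^ n, cz h u 1⁆ = z ^ n := by
    intro n
    induction n with
    | zero => simp
    | succ n ih =>
      have e1 : ⁅u ^ n * u, cz h u 1⁆ = (u ^ n * z * (u ^ n)⁻¹) * ⁅u ^ n, cz h u 1⁆ := by
        simp only [zel, commutatorElement_def]; group
      rw [pow_succ, e1, R.conj_fix (subset_closure ⟨0, cz_zero _ _⟩) (pow_mem hu n), ih, ← pow_succ']
  rw [← key]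
  exact commutatorElement_eq_one_iff_commute.2 (R.central R.up hu1)

theorem z_eq : Z = closure ((fun k : ℕ => cz h z k) '' Set.Iio e) := by
  set S := (fun k : ℕ => cz h z k) '' Set.Iio e with hS
  refine le_antisymm ((closure_le _).2 ?_) (closure_mono (by rintro _ ⟨k, -, rfl⟩; exact ⟨_, rfl⟩))
  have h1 : ∀ v ∈ closure S, cz h v 1 ∈ closure S := fun v hv => by
    refine cz_mem_closure ?_ hv
    rintro _ ⟨k, hk, rfl⟩
    simp only [cz_cz]
    rw [add_comm, ← Nat.cast_succ]
    rcases Nat.lt_or_eq_of_le (show k + 1 ≤ e from hk) with h' | h'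
    · exact subset_closure ⟨k + 1, h', rfl⟩
    · rw [Nat.succ_eq_add_one, h']; exact R.ze
  have hz : z ∈ closure S := by
    rcases Nat.eq_zero_or_pos e with he | he
    · have h2 := R.ze
      rw [he, Nat.cast_zero, cz_zero] at h2
      rw [hS, he]; exact h2
    · exact subset_closure ⟨0, he, by simp [cz_zero]⟩
  have hk : ∀ k : ℕ, cz h z k ∈ closure S := by
    intro k
    induction k with
    | zero => simpa [cz_zero] using hz
    | succ k ih =>
      have := h1 _ ih
      rwa [cz_cz, add_comm, ← Nat.cast_succ] at this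
  rintro _ ⟨j, rfl⟩
  rw [SetLike.mem_coe, cz_period R.hN]
  have h0 : 0 ≤ j % (N : ℤ) := Int.emod_nonneg _ (by have := R.N_pos; omega)
  have := hk (j % (N : ℤ)).toNat
  rwa [Int.toNat_of_nonneg h0] at this

theorem card_z : Finite Z ∧ Nat.card Z ≤ p ^ e := by
  have hb : ((fun k : ℕ => cz h z k) '' Set.Iio e) ⊆ (Z : Set G) := by
    rintro _ ⟨k, -, rfl⟩; exact subset_closure ⟨_, rfl⟩
  have hn : ∀ i < e, ∀ s ∈ (⊥ : Subgroup G) ⊔ closure ((fun k : ℕ => cz h z k) '' Set.Iio i),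
      cz h z i * s * (cz h z i)⁻¹ ∈ (⊥ : Subgroup G) ⊔ closure ((fun k : ℕ => cz h z k) '' Set.Iio i) := by
    intro i _ s hs
    rw [bot_sup_eq] at hs ⊢
    have hsZ : s ∈ Z := (closure_le _).2 (by rintro _ ⟨k, -, rfl⟩; exact subset_closure ⟨_, rfl⟩) hs
    rw [(R.zsub_comm (subset_closure ⟨_, rfl⟩) hsZ).eq, mul_inv_cancel_right]
    exact hs
  have hp : ∀ i < e, cz h z (i : ℕ) ^ p ∈ (⊥ : Subgroup G) := by
    intro i _
    rw [Subgroup.mem_bot, ← cz_pow, R.z_pow, cz_one]
  obtain ⟨hf, hc⟩ := card_extend_range (⊥ : Subgroup G) (fun k : ℕ => cz h z k) e R.p_pos hn hp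
  rw [bot_sup_eq, ← R.z_eq] at hf hc
  exact ⟨hf, hc.trans (by simp)⟩

/-- The bound. -/
theorem card_u : Finite U ∧ Nat.card U ≤ p ^ (3 * e) := by
  obtain ⟨hZf, hZc⟩ := R.card_z
  let a : ℕ → G := fun i => if i < e then cz h u (m * i) else cz h u (m * ((i - e : ℕ) : ℤ) + 1)
  have haU : ∀ i, a i ∈ U := fun i => by
    simp only [a]; split_ifs <;> exact subset_closure ⟨_, rfl⟩
  have hn : ∀ i < 2 * e, ∀ s ∈ Z ⊔ closure (a '' Set.Iio i), a i * s * (a i)⁻¹ ∈ Z ⊔ closure (a '' Set.Iio i) := by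
    intro i _ s hs
    have hsU : s ∈ U := (sup_le z_le_u ((closure_le _).2 (by rintro _ ⟨k, -, rfl⟩; exact haU k))) hs
    have e1 : a i * s * (a i)⁻¹ = ⁅a i, s⁆ * s := by simp only [commutatorElement_def]; group
    rw [e1]
    exact mul_mem (Subgroup.mem_sup_left (R.M_all (haU i) hsU)) hs
  have hp : ∀ i < 2 * e, a i ^ p ∈ Z := by
    intro i _
    simp only [a]
    split_ifs <;> rw [← cz_pow] <;> exact conj_z R.up _
  obtain ⟨hf, hc⟩ := card_extend_range Z a (2 * e) R.p_pos hn hp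
  set T := Z ⊔ closure (a '' Set.Iio (2 * e)) with hT
  have hB : closure ((fun k : ℕ => cz h u (m * k)) '' Set.Iio e) ⊔ Z ≤ T := by
    refine sup_le ((closure_le _).2 ?_) le_sup_left
    rintro _ ⟨k, hk, rfl⟩
    refine Subgroup.mem_sup_right (subset_closure ⟨k, ?_, ?_⟩)
    · rw [Set.mem_Iio] at hk ⊢; omega
    · simp only [a, Set.mem_Iio.1 hk, if_true]
  set B := closure ((fun k : ℕ => cz h u (m * k)) '' Set.Iio e) ⊔ Z with hBd
  have hBm : ∀ v ∈ B, cz h v m ∈ B := by
    intro v hv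
    rw [hBd, ← Subgroup.closure_eq Z, ← Subgroup.closure_union] at hv ⊢
    refine cz_mem_closure ?_ hv
    rintro _ (⟨k, hk, rfl⟩ | hz)
    · simp only [cz_cz, Subgroup.closure_union, Subgroup.closure_eq]
      rw [show m + m * (k : ℤ) = m * ((k + 1 : ℕ) : ℤ) by push_cast; ring]
      rcases Nat.lt_or_eq_of_le (show k + 1 ≤ e from hk) with h' | h'
      · exact Subgroup.mem_sup_left (subset_closure ⟨k + 1, h', rfl⟩)
      · rw [h']; exact R.ue
    · exact subset_closure (Or.inr (conj_z hz m))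
  have hu0 : u ∈ B := by
    rcases Nat.eq_zero_or_pos e with he | he
    · have h2 := R.ue
      rw [he, Nat.cast_zero, mul_zero, cz_zero] at h2
      rw [hBd, he]; exact h2
    · exact Subgroup.mem_sup_left (subset_closure ⟨0, he, by simp [cz_zero]⟩)
  have hk : ∀ k : ℕ, cz h u (m * k) ∈ B := by
    intro k
    induction k with
    | zero => simpa [cz_zero] using hu0
    | succ k ih =>
      have := hBm _ ih
      rw [cz_cz] at this
      rwa [show m * ((k + 1 : ℕ) : ℤ) = m + m * (k : ℤ) by push_cast; ring]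
  have hj : ∀ n : ℤ, cz h u (m * n) ∈ B := by
    intro n
    have h0 : 0 ≤ n % (N : ℤ) := Int.emod_nonneg _ (by have := R.N_pos; omega)
    have h1 := hk (n % (N : ℤ)).toNat
    rw [Int.toNat_of_nonneg h0, cz_period R.hN, Int.mul_emod, Int.emod_emod, ← Int.mul_emod,
      ← cz_period R.hN] at h1
    exact h1
  have hB1 : ∀ v ∈ B, cz h v 1 ∈ T := by
    intro v hv
    rw [hBd, ← Subgroup.closure_eq Z, ← Subgroup.closure_union] at hv
    refine closure_induction (p := fun v _ => cz h v 1 ∈ T) ?_ ?_ ?_ ?_ hv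
    · rintro _ (⟨k, hk, rfl⟩ | hz)
      · simp only [cz_cz]
        rw [Set.mem_Iio] at hk
        refine Subgroup.mem_sup_right (subset_closure ⟨e + k, ?_, ?_⟩)
        · rw [Set.mem_Iio]; omega
        · simp only [a, show ¬ e + k < e by omega, if_false, Nat.add_sub_cancel_left, add_comm]
      · exact Subgroup.mem_sup_left (conj_z hz 1)
    · rw [cz_one]; exact one_mem _
    · intro x y _ _ hx hy; rw [cz_mul]; exact mul_mem hx hy
    · intro x _ hx; rw [cz_inv]; exact inv_mem hx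
  have hle : U ≤ T := R.u_le.trans ((closure_le _).2 (by
    rintro _ ((⟨n, rfl⟩ | ⟨n, rfl⟩) | ⟨n, rfl⟩)
    · exact hB (hj n)
    · have := hB1 _ (hj n)
      rwa [cz_cz, add_comm] at this
    · exact Subgroup.mem_sup_left (subset_closure ⟨n, rfl⟩)))
  refine ⟨Finite.of_injective _ (Subgroup.inclusion_injective hle), ?_⟩
  refine (Nat.card_le_card_of_injective _ (Subgroup.inclusion_injective hle)).trans (hc.trans ?_)
  calc Nat.card Z * p ^ (2 * e) ≤ p ^ e * p ^ (2 * e) := Nat.mul_le_mul_right _ hZc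
    _ = p ^ (3 * e) := by rw [← pow_add]; congr 1; omega

end Rels

end Cfsg.Agent.Small.SU3Pres
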