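import Mathlib
import Cfsg.Prelude.Def_Classical
import Cfsg.Agent.Lib.Small.Hermitian
import Cfsg.Agent.Lib.Small.Unitary.Basic

/-!
The three-dimensional special unitary group of the antidiagonal form: unipotent elements, torus,
the Weyl element and the Bruhat decomposition.
-/

set_option autoImplicit false
set_option linter.unusedSectionVars false

namespace Cfsg.Agent.Small.SU3Pres

open Matrix

variable {F : Type*} [Field F] [StarRing F]

/-- The antidiagonal form. -/
def antiJ (F : Type*) [Field F] : Matrix (Fin 3) (Fin 3) F := !![0, 0, 1; 0, 1, 0; 1, 0, 0]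

theorem antiJ_herm : (antiJ F)ᴴ = antiJ F := by
  ext i j; fin_cases i <;> fin_cases j <;> simp [antiJ]

theorem antiJ_sq : antiJ F * antiJ F = 1 := by
  ext i j; fin_cases i <;> fin_cases j <;> simp [antiJ, Matrix.mul_apply, Fin.sum_univ_three]

/-- Isometries of the antidiagonal form of determinant one. -/
def U3 (F : Type*) [Field F] [StarRing F] : Subgroup (SpecialLinearGroup (Fin 3) F) where
  carrier := {M | M.1ᴴ * antiJ F * M.1 = antiJ F}
  mul_mem' {a b} ha hb := by
    simp only [Set.mem_ofPred_eq] at *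
    show (a.1 * b.1)ᴴ * antiJ F * (a.1 * b.1) = antiJ F
    rw [conjTranspose_mul,
      show b.1ᴴ * a.1ᴴ * antiJ F * (a.1 * b.1) = b.1ᴴ * (a.1ᴴ * antiJ F * a.1) * b.1 by
        simp only [mul_assoc], ha, hb]
  one_mem' := by simp
  inv_mem' {a} ha := by
    simp only [Set.mem_ofPred_eq] at *
    have h1 : a.1 * (a⁻¹).1 = 1 := congrArg Subtype.val (mul_inv_cancel a)
    calc (a⁻¹).1ᴴ * antiJ F * (a⁻¹).1
        = (a⁻¹).1ᴴ * (a.1ᴴ * antiJ F * a.1) * (a⁻¹).1 := by rw [ha]
      _ = (a.1 * (a⁻¹).1)ᴴ * antiJ F * (a.1 * (a⁻¹).1) := by simp only [conjTranspose_mul, mul_assoc]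
      _ = antiJ F := by rw [h1, conjTranspose_one, one_mul, mul_one]

/-- The underlying matrix. -/
def mv (g : U3 F) : Matrix (Fin 3) (Fin 3) F := g.1.1

@[simp] theorem mv_mul (g g' : U3 F) : mv (g * g') = mv g * mv g' := rfl

@[simp] theorem mv_one : mv (1 : U3 F) = 1 := rfl

theorem mv_form (g : U3 F) : (mv g)ᴴ * antiJ F * mv g = antiJ F := g.2

theorem mv_det (g : U3 F) : (mv g).det = 1 := g.1.2

theorem U3_ext {g g' : U3 F} (h : ∀ i j, mv g i j = mv g' i j) : g = g' :=
  Subtype.ext (Subtype.ext (Matrix.ext h))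

/-- Parameters of the unipotent radical. -/
def Par (F : Type*) [Field F] [StarRing F] : Type _ :=
  {v : F × F // v.2 + star v.2 + v.1 * star v.1 = 0}

namespace Par

/-- First coordinate. -/
def a (v : Par F) : F := v.1.1
/-- Second coordinate. -/
def b (v : Par F) : F := v.1.2

theorem eqn (v : Par F) : v.b + star v.b + v.a * star v.a = 0 := v.2

theorem star_b (v : Par F) : star v.b = -v.b - v.a * star v.a := by linear_combination v.eqn

theorem ext' {v w : Par F} (h1 : v.a = w.a) (h2 : v.b = w.b) : v = w :=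
  Subtype.ext (Prod.ext h1 h2)

/-- A parameter from coordinates. -/
def mk' (x y : F) (h : y + star y + x * star x = 0) : Par F := ⟨(x, y), h⟩

@[simp] theorem a_mk (x y : F) (h : y + star y + x * star x = 0) : (mk' x y h).a = x := rfl
@[simp] theorem b_mk (x y : F) (h : y + star y + x * star x = 0) : (mk' x y h).b = y := rfl

/-- The product. -/
def pm (v w : Par F) : Par F :=
  mk' (v.a + w.a) (v.b + w.b - star v.a * w.a) (by
    simp only [star_add, star_sub, star_mul', star_star]
    linear_combination v.eqn + w.eqn)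

/-- The zero parameter. -/
def zp : Par F := mk' 0 0 (by simp)

/-- The inverse parameter. -/
def neg (v : Par F) : Par F :=
  mk' (-v.a) (star v.b) (by simp only [star_star, star_neg]; linear_combination v.eqn)

/-- The torus action. -/
def act (t : Fˣ) (v : Par F) : Par F :=
  mk' (star (t : F) ^ 2 * (t : F)⁻¹ * v.a) ((t : F) * star (t : F) * v.b) (by
    have ht : (t : F) ≠ 0 := t.ne_zero
    have ht' : star (t : F) ≠ 0 := star_ne_zero.2 ht
    simp only [star_mul', star_star, star_pow, star_inv₀]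
    field_simp
    linear_combination ((t : F) * star (t : F)) * v.eqn)

end Par

/-- The unipotent matrix. -/
def nuMat (v : Par F) : Matrix (Fin 3) (Fin 3) F := !![1, -star v.a, v.b; 0, 1, v.a; 0, 0, 1]

theorem nuMat_det (v : Par F) : (nuMat v).det = 1 := by simp [nuMat, Matrix.det_fin_three]

/-- The unipotent element. -/
def nu (v : Par F) : U3 F :=
  ⟨⟨nuMat v, nuMat_det v⟩, by
    show (nuMat v)ᴴ * antiJ F * nuMat v = antiJ F
    ext i j
    fin_cases i <;> fin_cases j <;>
      simp [nuMat, antiJ, Matrix.mul_apply, Fin.sum_univ_three] <;>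
      linear_combination v.eqn⟩

@[simp] theorem mv_nu (v : Par F) : mv (nu v) = nuMat v := rfl

/-- The torus matrix. -/
def dgMat (t : Fˣ) : Matrix (Fin 3) (Fin 3) F :=
  !![(t : F), 0, 0; 0, star (t : F) * (t : F)⁻¹, 0; 0, 0, (star (t : F))⁻¹]

theorem dgMat_det (t : Fˣ) : (dgMat t).det = 1 := by
  have ht : (t : F) ≠ 0 := t.ne_zero
  have ht' : star (t : F) ≠ 0 := star_ne_zero.2 ht
  simp [dgMat, Matrix.det_fin_three]; field_simp

/-- The torus element. -/
def dgU (t : Fˣ) : U3 F :=
  ⟨⟨dgMat t, dgMat_det t⟩, by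
    have ht : (t : F) ≠ 0 := t.ne_zero
    have ht' : star (t : F) ≠ 0 := star_ne_zero.2 ht
    show (dgMat t)ᴴ * antiJ F * dgMat t = antiJ F
    ext i j
    fin_cases i <;> fin_cases j <;>
      simp [dgMat, antiJ, Matrix.mul_apply, Fin.sum_univ_three, star_inv₀] <;> field_simp⟩

@[simp] theorem mv_dgU (t : Fˣ) : mv (dgU t) = dgMat t := rfl

/-- The Weyl element. -/
def wU : U3 F :=
  ⟨⟨!![0, 0, 1; 0, -1, 0; 1, 0, 0], by simp [Matrix.det_fin_three]⟩, by
    show (!![0, 0, 1; 0, -1, 0; 1, 0, 0] : Matrix (Fin 3) (Fin 3) F)ᴴ * antiJ F * _ = antiJ F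
    ext i j
    fin_cases i <;> fin_cases j <;> simp [antiJ, Matrix.mul_apply, Fin.sum_univ_three]⟩

@[simp] theorem mv_wU : mv (wU : U3 F) = !![0, 0, 1; 0, -1, 0; 1, 0, 0] := rfl

theorem nu_inj : Function.Injective (nu : Par F → U3 F) := by
  intro v w h
  have h1 := congrArg (fun g : U3 F => mv g 1 2) h
  have h2 := congrArg (fun g : U3 F => mv g 0 2) h
  exact Par.ext' (by simpa [nuMat] using h1) (by simpa [nuMat] using h2)

theorem nu_mul (v w : Par F) : nu v * nu w = nu (Par.pm v w) := by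
  refine U3_ext fun i j => ?_
  fin_cases i <;> fin_cases j <;>
    simp [nuMat, Par.pm, Matrix.mul_apply, Fin.sum_univ_three] <;> ring

theorem nu_zero : nu (Par.zp : Par F) = 1 := by
  refine U3_ext fun i j => ?_
  fin_cases i <;> fin_cases j <;> simp [nuMat, Par.zp]

theorem nu_inv (v : Par F) : (nu v)⁻¹ = nu v.neg := by
  refine inv_eq_of_mul_eq_one_right ?_
  rw [nu_mul, ← nu_zero]
  refine congrArg nu (Par.ext' (by simp [Par.pm, Par.zp, Par.neg]) ?_)
  simp [Par.pm, Par.zp, Par.neg]
  linear_combination v.eqn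

theorem dgU_mul (s t : Fˣ) : dgU (s * t) = dgU s * dgU t := by
  refine U3_ext fun i j => ?_
  fin_cases i <;> fin_cases j <;>
    simp [dgMat, Matrix.mul_apply, Fin.sum_univ_three] <;> ring

/-- The torus as a homomorphism. -/
def dgHom : Fˣ →* U3 F := MonoidHom.mk' dgU dgU_mul

theorem dgHom_apply (t : Fˣ) : dgHom t = dgU t := rfl

theorem dgU_inj : Function.Injective (dgU : Fˣ → U3 F) := by
  intro s t h
  exact Units.ext (by simpa [dgMat] using congrArg (fun g : U3 F => mv g 0 0) h)

theorem dgU_nu (t : Fˣ) (v : Par F) : dgU t * nu v = nu (Par.act t v) * dgU t := by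
  have ht : (t : F) ≠ 0 := t.ne_zero
  have ht' : star (t : F) ≠ 0 := star_ne_zero.2 ht
  refine U3_ext fun i j => ?_
  fin_cases i <;> fin_cases j <;>
    simp [dgMat, nuMat, Par.act, Matrix.mul_apply, Fin.sum_univ_three, star_inv₀] <;>
    field_simp

theorem wU_sq : (wU : U3 F) * wU = 1 := by
  refine U3_ext fun i j => ?_
  fin_cases i <;> fin_cases j <;> simp [Matrix.mul_apply, Fin.sum_univ_three]

/-- The inverse conjugate of a unit. -/
def flip (t : Fˣ) : Fˣ := Units.mk0 (star (t : F))⁻¹ (inv_ne_zero (star_ne_zero.2 t.ne_zero))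

theorem wU_dgU (t : Fˣ) : wU * dgU t * wU = dgU (flip t) := by
  have ht : (t : F) ≠ 0 := t.ne_zero
  have ht' : star (t : F) ≠ 0 := star_ne_zero.2 ht
  refine U3_ext fun i j => ?_
  fin_cases i <;> fin_cases j <;>
    simp [dgMat, flip, Matrix.mul_apply, Fin.sum_univ_three, star_inv₀] <;> field_simp

theorem Par.b_ne_zero {v : Par F} (h : v.a ≠ 0) : v.b ≠ 0 := by
  intro hb
  have := v.eqn
  rw [hb, star_zero, add_zero, zero_add] at this
  exact mul_ne_zero h (star_ne_zero.2 h) this

/-- Left factor in the big cell. -/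
def Par.lf (v : Par F) (hb : v.b ≠ 0) : Par F :=
  Par.mk' (-v.a / v.b) v.b⁻¹ (by
    have hb' : star v.b ≠ 0 := star_ne_zero.2 hb
    simp only [star_div₀, star_neg, star_inv₀]
    field_simp
    linear_combination v.eqn)

/-- Right factor in the big cell. -/
def Par.rf (v : Par F) (hb : v.b ≠ 0) : Par F :=
  Par.mk' (-v.a / star v.b) v.b⁻¹ (by
    have hb' : star v.b ≠ 0 := star_ne_zero.2 hb
    simp only [star_div₀, star_neg, star_inv₀, star_star]
    field_simp
    linear_combination v.eqn)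

/-- The torus factor in the big cell. -/
def Par.tf (v : Par F) (hb : v.b ≠ 0) : Fˣ :=
  Units.mk0 (star v.b)⁻¹ (inv_ne_zero (star_ne_zero.2 hb))

theorem wU_nu_wU (v : Par F) (hb : v.b ≠ 0) :
    wU * nu v * wU = nu (v.lf hb) * dgU (v.tf hb) * wU * nu (v.rf hb) := by
  have hb' : star v.b ≠ 0 := star_ne_zero.2 hb
  refine U3_ext fun i j => ?_
  fin_cases i <;> fin_cases j <;>
    simp [dgMat, nuMat, Par.lf, Par.rf, Par.tf, Matrix.mul_apply, Fin.sum_univ_three,
      star_inv₀, star_div₀] <;>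
    field_simp <;> first | ring1 | linear_combination v.eqn | linear_combination -v.eqn

theorem big_unique {v₁ v₂ v₃ v₄ : Par F} {s t : Fˣ}
    (h : nu v₁ * dgU s * wU * nu v₂ = nu v₃ * dgU t * wU * nu v₄) : v₁ = v₃ ∧ v₂ = v₄ := by
  have hs : star (s : F) ≠ 0 := star_ne_zero.2 s.ne_zero
  have ht : star (t : F) ≠ 0 := star_ne_zero.2 t.ne_zero
  have e : ∀ i j, mv (nu v₁ * dgU s * wU * nu v₂) i j = mv (nu v₃ * dgU t * wU * nu v₄) i j :=
    fun i j => by rw [h]
  simp only [mv_mul] at e
  have e20 := e 2 0; have e21 := e 2 1; have e22 := e 2 2; have e10 := e 1 0; have e00 := e 0 0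
  simp [dgMat, nuMat, Matrix.mul_apply, Fin.sum_univ_three, star_inv₀] at e20 e21 e22 e10 e00
  rw [e20] at e21 e22 e10 e00
  refine ⟨Par.ext' ?_ ?_, Par.ext' ?_ ?_⟩
  · simpa [ht] using e10
  · simpa [ht] using e00
  · simpa [ht] using e21
  · simpa [ht] using e22

set_option maxHeartbeats 1000000 in
theorem upper_decomp (g : U3 F) (h1 : mv g 1 0 = 0) (h2 : mv g 2 0 = 0) :
    ∃ (t : Fˣ) (v : Par F), g = dgU t * nu v := by
  set M := mv g with hM
  have hform : ∀ i j, (Mᴴ * antiJ F * M) i j = antiJ F i j := fun i j => by rw [hM, mv_form]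
  have hdet : M.det = 1 := mv_det g
  have f01 := hform 0 1
  have f02 := hform 0 2
  have f12 := hform 1 2
  have f22 := hform 2 2
  have f11 := hform 1 1
  simp [antiJ, Matrix.mul_apply, Fin.sum_univ_three, h1, h2] at f01 f02 f12 f22 f11
  have h00 : M 0 0 ≠ 0 := by
    intro h; rw [h] at f02; simp at f02
  have h00' : star (M 0 0) ≠ 0 := star_ne_zero.2 h00
  have h21 : M 2 1 = 0 := by
    rcases f01 with h | h
    · exact absurd h h00
    · exact h
  rw [Matrix.det_fin_three] at hdet
  simp [h1, h2, h21] at hdet f12 f11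
  have h22 : M 2 2 = (star (M 0 0))⁻¹ := eq_inv_of_mul_eq_one_right f02
  have h11 : M 1 1 = star (M 0 0) * (M 0 0)⁻¹ := by
    rw [h22] at hdet
    field_simp at hdet ⊢
    linear_combination hdet
  have h11' : star (M 1 1) = M 0 0 * (star (M 0 0))⁻¹ := by
    rw [h11]; simp [star_inv₀]
  set a : F := M 1 2 * (M 0 0 * (star (M 0 0))⁻¹) with ha
  set b : F := M 0 2 * (M 0 0)⁻¹ with hb
  have hab : b + star b + a * star a = 0 := by
    rw [ha, hb]
    simp only [star_mul', star_inv₀, star_star]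
    rw [h22] at f22
    simp only [star_inv₀, star_star] at f22
    field_simp at f22 ⊢
    linear_combination f22
  have h01 : M 0 1 = -star a * M 0 0 := by
    have f12' := congrArg star f12
    rw [h22] at f12'
    simp [star_inv₀, h11'] at f12'
    rw [ha]
    simp only [star_mul', star_inv₀, star_star]
    field_simp at f12' ⊢
    linear_combination f12'
  refine ⟨Units.mk0 _ h00, Par.mk' a b hab, U3_ext fun i j => ?_⟩
  rw [← hM]
  fin_cases i <;> fin_cases j <;>
    simp [dgMat, nuMat, Matrix.mul_apply, Fin.sum_univ_three, h1, h2, h21, h22, h11, h01, ha, hb] <;>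
    field_simp

/-- Bruhat decomposition. -/
theorem bruhat (g : U3 F) :
    (∃ (t : Fˣ) (v : Par F), g = dgU t * nu v) ∨
      ∃ (v : Par F) (t : Fˣ) (w : Par F), g = nu v * wU * dgU t * nu w := by
  set M := mv g with hM
  have f00 : (Mᴴ * antiJ F * M) 0 0 = antiJ F 0 0 := by rw [hM, mv_form]
  simp [antiJ, Matrix.mul_apply, Fin.sum_univ_three] at f00
  by_cases h20 : M 2 0 = 0
  · refine Or.inl (upper_decomp g ?_ h20)
    rw [h20] at f00
    simpa [hM] using f00
  · have h20' : star (M 2 0) ≠ 0 := star_ne_zero.2 h20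
    let v : Par F := Par.mk' (M 1 0 / M 2 0) (M 0 0 / M 2 0) (by
      simp only [star_div₀]
      field_simp
      linear_combination f00)
    have k1 : mv (wU * (nu v)⁻¹ * g) 1 0 = 0 := by
      rw [nu_inv, mv_mul, mv_mul, ← hM]
      simp [nuMat, Par.neg, v, Matrix.mul_apply, Fin.sum_univ_three]
      field_simp
      ring
    have k2 : mv (wU * (nu v)⁻¹ * g) 2 0 = 0 := by
      rw [nu_inv, mv_mul, mv_mul, ← hM]
      simp [nuMat, Par.neg, v, Matrix.mul_apply, Fin.sum_univ_three, star_div₀]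
      field_simp
      linear_combination f00
    obtain ⟨t, w, hw⟩ := upper_decomp (wU * (nu v)⁻¹ * g) k1 k2
    refine Or.inr ⟨v, t, w, ?_⟩
    calc g = nu v * (wU * wU) * (nu v)⁻¹ * g := by rw [wU_sq, mul_one, mul_inv_cancel, one_mul]
      _ = nu v * wU * (wU * (nu v)⁻¹ * g) := by simp only [mul_assoc]
      _ = nu v * wU * dgU t * nu w := by rw [hw]; simp only [mul_assoc]

/-- An element commuting with a central unipotent and with the Weyl element is in the torus. -/
theorem torus_of_commute (g : U3 F) (v : Par F) (hv : v.a = 0) (hvb : v.b ≠ 0)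
    (h1 : g * nu v = nu v * g) (h2 : g * wU = wU * g) : ∃ t : Fˣ, g = dgU t := by
  set M := mv g with hM
  have e : ∀ i j, mv (g * nu v) i j = mv (nu v * g) i j := fun i j => by rw [h1]
  have f : ∀ i j, mv (g * wU) i j = mv (wU * g) i j := fun i j => by rw [h2]
  simp only [mv_mul, ← hM] at e f
  have e12 := e 1 2; have e22 := e 2 2; have e01 := e 0 1
  have f01 := f 0 1; have f00 := f 0 0; have f21 := f 2 1
  have f22 := f 2 2; have f10 := f 1 0
  simp [nuMat, hv, Matrix.mul_apply, Fin.sum_univ_three, hvb] at e12 e22 e01 f01 f00 f21 f22 f10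
  obtain ⟨t, w, hw⟩ := upper_decomp g e12 e22
  have g20 : M 1 2 = 0 := by linear_combination f10 - e12
  have g02 : M 0 2 = 0 := by linear_combination f00 + e22
  refine ⟨t, ?_⟩
  have k12 : (mv g) 1 2 = mv (dgU t * nu w) 1 2 := by rw [← hw]
  have k02 : (mv g) 0 2 = mv (dgU t * nu w) 0 2 := by rw [← hw]
  simp only [mv_mul, ← hM] at k12 k02
  simp [g20, g02, dgMat, nuMat, Matrix.mul_apply, Fin.sum_univ_three] at k12 k02
  rw [hw, show w = Par.zp from Par.ext' k12 k02, nu_zero, mul_one]

end Cfsg.Agent.Small.SU3Pres
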