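import Mathlib
import Cfsg.Agent.Lib.Small.SU3Pres.Group
import Cfsg.Agent.Lib.Small.SU3Pres.Model

/-!
A group on three elements satisfying the relations is no larger than the three-dimensional
special unitary group, once the products `w v w` lie in the big cell.
-/

set_option autoImplicit false
set_option linter.unusedSectionVars false
set_option linter.style.haveILetI false

namespace Cfsg.Agent.Small.SU3Pres

open Subgroup

variable {F : Type*} [Field F] [StarRing F] [Finite F] {G : Type*} [Group G]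

/-- The data of a group mapping onto the model. -/
structure Setup (F G : Type*) [Field F] [StarRing F] [Group G] where
  u : G
  h : G
  w : G
  f : G →* U3 F
  t0 : Fˣ
  q : ℕ
  N : ℕ
  N_pos : 0 < N
  hN : h ^ N = 1
  ucard : Finite (usub h u) ∧ Nat.card (usub h u) ≤ Nat.card (Par F)
  gen : closure ({u, h, w} : Set G) = ⊤
  fh : f h = dgU t0
  fw : f w = wU
  t0_gen : ∀ t : Fˣ, ∃ k : ℤ, t0 ^ k = t
  ww : w * w = 1
  wh : w * h * w = h ^ (-(q : ℤ))
  fu : ∃ v, f u = nu v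
  usurj : ∀ v : Par F, ∃ a ∈ usub h u, f a = nu v
  qcard : Nat.card (U3 F) = Nat.card (Par F) * N * (1 + Nat.card (Par F))

namespace Setup

variable (S : Setup F G)

/-- The chosen preimage of a unipotent element. -/
noncomputable def phi (v : Par F) : G := (S.usurj v).choose

theorem phi_mem (v : Par F) : S.phi v ∈ usub S.h S.u := (S.usurj v).choose_spec.1

theorem f_phi (v : Par F) : S.f (S.phi v) = nu v := (S.usurj v).choose_spec.2

theorem dgU_zpow (t : Fˣ) (k : ℤ) : (dgU t : U3 F) ^ k = dgU (t ^ k) := by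
  rw [← dgHom_apply, ← dgHom_apply, map_zpow]

theorem f_hpow (k : ℤ) : S.f (S.h ^ k) = dgU (S.t0 ^ k) := by
  rw [map_zpow, S.fh, dgU_zpow]

theorem phi_bij : Function.Bijective fun v => (⟨S.phi v, S.phi_mem v⟩ : usub S.h S.u) := by
  have hinj : Function.Injective fun v => (⟨S.phi v, S.phi_mem v⟩ : usub S.h S.u) := by
    intro a b hab
    have := congrArg (fun x : usub S.h S.u => S.f x.1) hab
    simp only [f_phi] at this
    exact nu_inj this
  obtain ⟨hf, hc⟩ := S.ucard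
  exact (Nat.bijective_iff_injective_and_card _).2
    ⟨hinj, le_antisymm (Nat.card_le_card_of_injective _ hinj) (hc)⟩

theorem exists_phi {x : G} (hx : x ∈ usub S.h S.u) : ∃ v, x = S.phi v := by
  obtain ⟨v, hv⟩ := S.phi_bij.2 ⟨x, hx⟩
  exact ⟨v, (congrArg Subtype.val hv).symm⟩

theorem eq_phi {x : G} (hx : x ∈ usub S.h S.u) {v : Par F} (hv : S.f x = nu v) : x = S.phi v := by
  obtain ⟨w', rfl⟩ := S.exists_phi hx
  rw [S.f_phi] at hv
  rw [nu_inj hv]

theorem phi_mul (v v' : Par F) : S.phi v * S.phi v' = S.phi (Par.pm v v') :=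
  S.eq_phi (mul_mem (S.phi_mem v) (S.phi_mem v')) (by rw [map_mul, f_phi, f_phi, nu_mul])

theorem phi_zero : S.phi Par.zp = 1 := (S.eq_phi (one_mem _) (by rw [map_one, nu_zero])).symm

theorem conj_phi (k : ℤ) (v : Par F) :
    S.h ^ k * S.phi v * (S.h ^ k)⁻¹ = S.phi (Par.act (S.t0 ^ k) v) :=
  S.eq_phi (Rels.conj_u (S.phi_mem v) k) (by
    rw [cz, map_mul, map_mul, map_inv, f_phi, S.f_hpow, dgU_nu, mul_inv_cancel_right])

theorem move {x : G} (hx : x ∈ usub S.h S.u) (k : ℤ) :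
    ∃ x' ∈ usub S.h S.u, S.h ^ k * x = x' * S.h ^ k :=
  ⟨_, Rels.conj_u hx k, by simp only [cz]; group⟩

theorem w_hpow (k : ℤ) : S.w * S.h ^ k = S.h ^ (-(S.q : ℤ) * k) * S.w := by
  have hw : S.w⁻¹ = S.w := inv_eq_of_mul_eq_one_right S.ww
  have h1 : S.w * S.h ^ k * S.w⁻¹ = S.h ^ (-(S.q : ℤ) * k) := by
    rw [← conj_zpow, hw, S.wh, zpow_mul]
  rw [← h1]; group

/-- The big cell. -/
def BG (x : G) : Prop :=
  ∃ a ∈ usub S.h S.u, ∃ b ∈ usub S.h S.u, ∃ k : ℤ, x = a * S.h ^ k * S.w * b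

theorem BG_u_left {x : G} (hx : S.BG x) {c : G} (hc : c ∈ usub S.h S.u) : S.BG (c * x) := by
  obtain ⟨a, ha, b, hb, k, rfl⟩ := hx
  exact ⟨c * a, mul_mem hc ha, b, hb, k, by group⟩

theorem BG_u_right {x : G} (hx : S.BG x) {c : G} (hc : c ∈ usub S.h S.u) : S.BG (x * c) := by
  obtain ⟨a, ha, b, hb, k, rfl⟩ := hx
  exact ⟨a, ha, b * c, mul_mem hb hc, k, by group⟩

theorem BG_h_left {x : G} (hx : S.BG x) (j : ℤ) : S.BG (S.h ^ j * x) := by
  obtain ⟨a, ha, b, hb, k, rfl⟩ := hx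
  obtain ⟨a', ha', e⟩ := S.move ha j
  refine ⟨a', ha', b, hb, j + k, ?_⟩
  simp only [← mul_assoc]
  rw [e, zpow_add]; simp only [mul_assoc]

theorem BG_h_right {x : G} (hx : S.BG x) (j : ℤ) : S.BG (x * S.h ^ j) := by
  obtain ⟨a, ha, b, hb, k, rfl⟩ := hx
  obtain ⟨b', hb', e⟩ := S.move hb (-j)
  have e' : b * S.h ^ j = S.h ^ j * b' := by
    calc b * S.h ^ j = S.h ^ j * (S.h ^ (-j) * b) * S.h ^ j := by group
      _ = S.h ^ j * b' := by rw [e]; group
  refine ⟨a, ha, b', hb', k + -(S.q : ℤ) * j, ?_⟩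
  calc a * S.h ^ k * S.w * b * S.h ^ j = a * S.h ^ k * (S.w * (b * S.h ^ j)) := by
        simp only [mul_assoc]
    _ = a * S.h ^ k * (S.w * S.h ^ j * b') := by rw [e']; simp only [mul_assoc]
    _ = _ := by rw [S.w_hpow, zpow_add]; simp only [mul_assoc]

/-- The product `w v w` lies in the big cell. -/
def Good (v : Par F) : Prop := S.BG (S.w * S.phi v * S.w)

theorem good_eq {v : Par F} (hb : v.b ≠ 0) (hg : S.Good v) :
    ∃ k : ℤ, S.w * S.phi v * S.w = S.phi (v.lf hb) * S.h ^ k * S.w * S.phi (v.rf hb) := by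
  obtain ⟨a, ha, b, hb', k, e⟩ := hg
  obtain ⟨va, rfl⟩ := S.exists_phi ha
  obtain ⟨vb, rfl⟩ := S.exists_phi hb'
  have h1 := congrArg S.f e
  simp only [map_mul, f_phi, S.f_hpow, S.fw] at h1
  rw [wU_nu_wU v hb] at h1
  obtain ⟨e1, e2⟩ := big_unique h1
  exact ⟨k, by rw [e, e1, e2]⟩

theorem good_of_seed {v : Par F} {x : G} (hx : x ∈ usub S.h S.u) (hv : S.f x = nu v)
    (hb : S.BG (S.w * x * S.w)) : S.Good v := by
  rw [Good, ← S.eq_phi hx hv]; exact hb

theorem good_act {v : Par F} (hg : S.Good v) (k : ℤ) : S.Good (Par.act (S.t0 ^ k) v) := by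
  rw [Good, ← S.conj_phi]
  have e : S.w * (S.h ^ k * S.phi v * (S.h ^ k)⁻¹) * S.w =
      S.h ^ (-(S.q : ℤ) * k) * (S.w * S.phi v * S.w) * S.h ^ (-(S.q : ℤ) * -k) := by
    have h1 : (S.h ^ k)⁻¹ * S.w = S.w * S.h ^ (-(S.q : ℤ) * -k) := by
      have h2 := S.w_hpow (-k)
      have hw : S.w⁻¹ = S.w := inv_eq_of_mul_eq_one_right S.ww
      calc (S.h ^ k)⁻¹ * S.w = S.w * (S.w * S.h ^ (-k)) * S.w := by
            rw [← mul_assoc S.w S.w, S.ww, one_mul, zpow_neg]
        _ = _ := by rw [h2, mul_assoc, mul_assoc, S.ww, mul_one]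
    calc S.w * (S.h ^ k * S.phi v * (S.h ^ k)⁻¹) * S.w
        = (S.w * S.h ^ k) * S.phi v * ((S.h ^ k)⁻¹ * S.w) := by simp only [mul_assoc]
      _ = _ := by rw [S.w_hpow, h1]; simp only [mul_assoc]
  rw [e]
  exact S.BG_h_right (S.BG_h_left hg _) _

theorem good_step {v z : Par F} (hv : v.b ≠ 0) (hz : z.b ≠ 0) (gv : S.Good v) (gz : S.Good z)
    (gm : S.Good (Par.pm (v.rf hv) (z.lf hz))) : S.Good (Par.pm v z) := by
  obtain ⟨k1, e1⟩ := S.good_eq hv gv
  obtain ⟨k2, e2⟩ := S.good_eq hz gz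
  have e : S.w * S.phi (Par.pm v z) * S.w =
      S.phi (v.lf hv) * (S.h ^ k1 * ((S.w * S.phi (Par.pm (v.rf hv) (z.lf hz)) * S.w) *
        S.h ^ (-(S.q : ℤ) * k2) * (S.w * S.w))) * S.phi (z.rf hz) := by
    have h3 : S.h ^ k2 * S.w = S.w * (S.w * S.h ^ k2) * S.w := by
      rw [← mul_assoc S.w S.w, S.ww, one_mul]
    calc S.w * S.phi (Par.pm v z) * S.w
        = (S.w * S.phi v * S.w) * (S.w * S.phi z * S.w) := by
          rw [← S.phi_mul]
          simp only [mul_assoc]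
          rw [← mul_assoc S.w S.w, S.ww, one_mul]
      _ = S.phi (v.lf hv) * (S.h ^ k1 * (S.w * (S.phi (v.rf hv) * S.phi (z.lf hz)) *
            (S.h ^ k2 * S.w))) * S.phi (z.rf hz) := by rw [e1, e2]; simp only [mul_assoc]
      _ = _ := by
          rw [S.phi_mul, h3, S.w_hpow]
          simp only [mul_assoc]
  rw [Good, e, S.ww, mul_one]
  exact S.BG_u_right (S.BG_u_left (S.BG_h_left (S.BG_h_right gm _) _) (S.phi_mem _)) (S.phi_mem _)

/-- The bound. -/
theorem bijective (hgood : ∀ v : Par F, v.b ≠ 0 → S.Good v) : Function.Bijective S.f := by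
  classical
  haveI : Finite (Par F) := Subtype.finite
  haveI : Finite (U3 F) := Nat.finite_of_card_ne_zero (by
    rw [S.qcard]
    have h1 := S.N_pos
    have h2 : 0 < Nat.card (Par F) := by
      haveI : Nonempty (Par F) := ⟨Par.zp⟩
      exact Nat.card_pos
    positivity)
  let P : (Par F × Fin S.N) ⊕ (Par F × Fin S.N × Par F) → G :=
    Sum.elim (fun t => S.phi t.1 * S.h ^ (t.2 : ℕ))
      (fun t => S.phi t.1 * S.h ^ (t.2.1 : ℕ) * S.w * S.phi t.2.2)
  have hN := S.N_pos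
  have hmod : ∀ k : ℤ, ∃ i : Fin S.N, S.h ^ k = S.h ^ (i : ℕ) := fun k => by
    have h0 : 0 ≤ k % (S.N : ℤ) := Int.emod_nonneg _ (by omega)
    have h1 : k % (S.N : ℤ) < S.N := Int.emod_lt_of_pos _ (by omega)
    refine ⟨⟨(k % (S.N : ℤ)).toNat, by omega⟩, ?_⟩
    conv_lhs => rw [← Int.emod_add_mul_ediv k S.N, zpow_add, zpow_mul, zpow_natCast, S.hN,
      one_zpow, mul_one, ← Int.toNat_of_nonneg h0, zpow_natCast]
  have inl : ∀ (a : G), a ∈ usub S.h S.u → ∀ k : ℤ, a * S.h ^ k ∈ Set.range P := by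
    intro a ha k
    obtain ⟨v, rfl⟩ := S.exists_phi ha
    obtain ⟨i, hi⟩ := hmod k
    exact ⟨Sum.inl (v, i), by simp [P, hi]⟩
  have inr : ∀ x, S.BG x → x ∈ Set.range P := by
    rintro _ ⟨a, ha, b, hb, k, rfl⟩
    obtain ⟨v, rfl⟩ := S.exists_phi ha
    obtain ⟨v', rfl⟩ := S.exists_phi hb
    obtain ⟨i, hi⟩ := hmod k
    exact ⟨Sum.inr (v, i, v'), by simp [P, hi]⟩
  have split : ∀ x ∈ Set.range P, (∃ a ∈ usub S.h S.u, ∃ k : ℤ, x = a * S.h ^ k) ∨ S.BG x := by
    rintro _ ⟨(⟨v, i⟩ | ⟨v, i, v'⟩), rfl⟩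
    · exact Or.inl ⟨_, S.phi_mem v, (i : ℕ), by simp [P]⟩
    · exact Or.inr ⟨_, S.phi_mem v, _, S.phi_mem v', (i : ℕ), by simp [P]⟩
  have hu : ∀ c ∈ usub S.h S.u, ∀ x ∈ Set.range P, c * x ∈ Set.range P := by
    intro c hc x hx
    rcases split x hx with ⟨a, ha, k, rfl⟩ | hb
    · rw [← mul_assoc]; exact inl _ (mul_mem hc ha) k
    · exact inr _ (S.BG_u_left hb hc)
  have hh : ∀ (j : ℤ) (x : G), x ∈ Set.range P → S.h ^ j * x ∈ Set.range P := by
    intro j x hx
    rcases split x hx with ⟨a, ha, k, rfl⟩ | hb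
    · obtain ⟨a', ha', e⟩ := S.move ha j
      rw [← mul_assoc, e, mul_assoc, ← zpow_add]; exact inl _ ha' _
    · exact inr _ (S.BG_h_left hb j)
  have hw : ∀ x ∈ Set.range P, S.w * x ∈ Set.range P := by
    intro x hx
    rcases split x hx with ⟨a, ha, k, rfl⟩ | hb
    · obtain ⟨a', ha', e⟩ := S.move ha (-k)
      refine inr _ ⟨1, one_mem _, a', ha', -(S.q : ℤ) * k, ?_⟩
      have e' : a * S.h ^ k = S.h ^ k * a' := by
        calc a * S.h ^ k = S.h ^ k * (S.h ^ (-k) * a) * S.h ^ k := by group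
          _ = S.h ^ k * a' := by rw [e]; group
      rw [e', ← mul_assoc, S.w_hpow, one_mul]
    · obtain ⟨a, ha, b, hb', k, rfl⟩ := hb
      obtain ⟨va, rfl⟩ := S.exists_phi ha
      have e : S.w * (S.phi va * S.h ^ k * S.w * b) =
          (S.w * S.phi va * S.w) * (S.h ^ (-(S.q : ℤ) * k) * (S.w * S.w) * b) := by
        calc S.w * (S.phi va * S.h ^ k * S.w * b)
            = S.w * S.phi va * S.w * ((S.w * S.h ^ k) * S.w) * b := by
              simp only [mul_assoc]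
              rw [← mul_assoc S.w S.w, S.ww, one_mul]
          _ = _ := by rw [S.w_hpow]; simp only [mul_assoc]
      rw [e, S.ww, mul_one]
      by_cases hvb : va.b = 0
      · have hva : va = Par.zp := by
          refine Par.ext' ?_ (hvb.trans rfl)
          by_contra h0
          exact Par.b_ne_zero h0 hvb
        obtain ⟨b', hb'', e2⟩ := S.move hb' (-(S.q : ℤ) * k)
        rw [hva, S.phi_zero, mul_one, S.ww, one_mul, e2]
        exact inl _ hb'' _
      · rw [← mul_assoc]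
        exact inr _ (S.BG_u_right (S.BG_h_right (hgood va hvb) _) hb')
  have hall : ∀ g : G, g ∈ Set.range P := by
    intro g
    have hg : g ∈ closure ({S.u, S.h, S.w} : Set G) := S.gen ▸ mem_top g
    have hu0 : S.u ∈ usub S.h S.u := subset_closure ⟨0, cz_zero _ _⟩
    refine closure_induction_left (p := fun g _ => g ∈ Set.range P) ?_ ?_ ?_ hg
    · simpa using inl 1 (one_mem _) 0
    · intro a ha y _ hy
      rcases ha with h' | h' | h'
      · rw [h']; exact hu _ hu0 _ hy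
      · rw [h']; simpa using hh 1 _ hy
      · rw [show a = S.w from h']; exact hw _ hy
    · intro a ha y _ hy
      rcases ha with h' | h' | h'
      · rw [h']; exact hu _ (inv_mem hu0) _ hy
      · rw [h']; simpa using hh (-1) _ hy
      · rw [show a = S.w from h', inv_eq_of_mul_eq_one_right S.ww]; exact hw _ hy
  have hPs : Function.Surjective P := hall
  haveI : Finite G := Finite.of_surjective P hPs
  have hsurj : Function.Surjective S.f := by
    intro g
    rcases bruhat g with ⟨t, v, rfl⟩ | ⟨v, t, v', rfl⟩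
    · obtain ⟨k, rfl⟩ := S.t0_gen t
      exact ⟨S.h ^ k * S.phi v, by rw [map_mul, S.f_hpow, f_phi]⟩
    · obtain ⟨k, rfl⟩ := S.t0_gen t
      exact ⟨S.phi v * S.w * S.h ^ k * S.phi v', by rw [map_mul, map_mul, map_mul, S.f_hpow, f_phi, f_phi, S.fw]⟩
  refine (Nat.bijective_iff_surjective_and_card _).2
    ⟨hsurj, le_antisymm ?_ (Nat.card_le_card_of_surjective _ hsurj)⟩
  refine (Nat.card_le_card_of_surjective P hPs).trans_eq ?_
  rw [Nat.card_sum, Nat.card_prod, Nat.card_prod, Nat.card_prod, Nat.card_fin, S.qcard]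
  ring

end Setup

end Cfsg.Agent.Small.SU3Pres
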