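import Mathlib
import Cfsg.Agent.Lib.Small.SU3Pres.Bruhat

/-!
Field facts for the short presentation of three-dimensional special unitary groups, and the
induction putting all products `w v w` in the big cell.
-/

set_option autoImplicit false
set_option linter.unusedSectionVars false
set_option linter.style.haveILetI false

namespace Cfsg.Agent.Small.SU3Pres

open Subgroup
open scoped commutatorElement

variable {F : Type*} [Field F] [StarRing F]

/-- A central parameter. -/
def Par.sk (s : F) (hs : star s = -s) : Par F :=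
  Par.mk' 0 s (by rw [hs, zero_mul, add_zero, add_neg_cancel])

theorem Par.act_act (s t : Fˣ) (v : Par F) : Par.act (s * t) v = Par.act s (Par.act t v) := by
  refine Par.ext' ?_ ?_ <;> simp [Par.act] <;> ring

theorem Par.eq_mul_sk (v w : Par F) (h : v.a = w.a) :
    ∃ (s : F) (hs : star s = -s), nu v = nu w * nu (Par.sk s hs) := by
  refine ⟨v.b - w.b, by rw [star_sub, v.star_b, w.star_b, h]; ring, ?_⟩
  rw [nu_mul]
  refine congrArg nu (Par.ext' ?_ ?_)
  · simp [Par.pm, Par.sk, h]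
  · simp [Par.pm, Par.sk]

/-- Parameters of a field with `q²` elements. -/
structure Prm (F : Type*) [Field F] [StarRing F] [Fintype F] (q : ℕ) where
  hF : Fintype.card F = q ^ 2
  hstar : ∀ x : F, star x = x ^ q
  q3 : 2 < q
  t0 : Fˣ
  gen : ∀ t : Fˣ, t ∈ Subgroup.zpowers t0

namespace Prm

variable [Fintype F] {q : ℕ} (D : Prm F q)

theorem order : orderOf D.t0 = q ^ 2 - 1 := by
  classical
  rw [orderOf_eq_card_of_forall_mem_zpowers D.gen, Nat.card_units, Nat.card_eq_fintype_card, D.hF]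

theorem pow_eq_one {j : ℕ} : (D.t0 : F) ^ j = 1 ↔ q ^ 2 - 1 ∣ j := by
  rw [← Units.val_pow_eq_pow_val, Units.val_eq_one, ← orderOf_dvd_iff_pow_eq_one, D.order]

theorem exists_pow {x : F} (hx : x ≠ 0) : ∃ j : ℕ, x = (D.t0 : F) ^ j := by
  obtain ⟨j, hj⟩ := mem_powers_iff_mem_zpowers.2 (D.gen (Units.mk0 x hx))
  exact ⟨j, by rw [← Units.val_pow_eq_pow_val, show D.t0 ^ j = Units.mk0 x hx from hj]; rfl⟩

theorem t0_ne : (D.t0 : F) ≠ 0 := D.t0.ne_zero

include D in
theorem sq_eq : q ^ 2 - 1 = (q - 1) * (q + 1) := by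
  obtain ⟨k, rfl⟩ : ∃ k, q = k + 1 := ⟨q - 1, by have := D.q3; omega⟩
  rw [Nat.add_sub_cancel, show (k + 1) ^ 2 = k * (k + 1 + 1) + 1 by ring, Nat.add_sub_cancel]

/-- The norm of the generator. -/
def g : F := (D.t0 : F) * star (D.t0 : F)

/-- The multiplier. -/
def mu : F := star (D.t0 : F) ^ 2 * (D.t0 : F)⁻¹

/-- The generator of the elements of norm one. -/
def zeta : F := (D.t0 : F) ^ (q - 1)

/-- The central commutator. -/
def c0 : F := star D.mu - D.mu

theorem g_eq : D.g = (D.t0 : F) ^ (q + 1) := by rw [g, D.hstar, pow_succ']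

theorem g_ne : D.g ≠ 0 := by rw [g_eq]; exact pow_ne_zero _ D.t0_ne

theorem star_g : star D.g = D.g := by rw [g, star_mul', star_star, mul_comm]

theorem g_pow_fixed (k : ℕ) : star (D.g ^ k) = D.g ^ k := by rw [star_pow, star_g]

theorem mu_eq : D.mu = (D.t0 : F) ^ (2 * q - 1) := by
  obtain ⟨k, hk⟩ : ∃ k, q = k + 1 := ⟨q - 1, by have := D.q3; omega⟩
  rw [mu, D.hstar, ← pow_mul, show q * 2 = 2 * q - 1 + 1 by omega, pow_succ,
    mul_inv_cancel_right₀ D.t0_ne]

theorem mu_ne : D.mu ≠ 0 := by rw [mu_eq]; exact pow_ne_zero _ D.t0_ne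

theorem mu_cube : D.mu ^ (2 * q + 1) = (D.t0 : F) ^ 3 := by
  obtain ⟨k, hk⟩ : ∃ k, q = k + 1 := ⟨q - 1, by have := D.q3; omega⟩
  have h1 : (2 * q - 1) * (2 * q + 1) = 3 + 4 * (q ^ 2 - 1) := by
    rw [D.sq_eq, hk, Nat.add_sub_cancel, show 2 * (k + 1) - 1 = 2 * k + 1 by omega]; ring
  rw [mu_eq, ← pow_mul, h1, pow_add, (D.pow_eq_one).2 (dvd_mul_left _ _), mul_one]

theorem mu_not_fixed : star D.mu ≠ D.mu := by
  intro h
  rw [D.hstar, mu_eq, ← pow_mul] at h
  obtain ⟨k, hk⟩ : ∃ k, q = k + 1 := ⟨q - 1, by have := D.q3; omega⟩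
  have h1 : (D.t0 : F) ^ ((2 * q - 1) * (q - 1)) = 1 := by
    refine mul_left_cancel₀ (pow_ne_zero (2 * q - 1) D.t0_ne) ?_
    rw [← pow_add, mul_one, show 2 * q - 1 + (2 * q - 1) * (q - 1) = (2 * q - 1) * q by
      rw [hk, Nat.add_sub_cancel]; ring]
    exact h
  rw [D.pow_eq_one, D.sq_eq, mul_comm (2 * q - 1)] at h1
  obtain ⟨c, hc⟩ := Nat.dvd_of_mul_dvd_mul_left (by have := D.q3; omega) h1
  have h2 : c < 2 := by
    by_contra hcon
    have : (q + 1) * 2 ≤ (q + 1) * c := Nat.mul_le_mul_left _ (by omega)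
    omega
  have := D.q3
  rcases (show c = 0 ∨ c = 1 by omega) with rfl | rfl
  · rw [mul_zero] at hc; omega
  · rw [mul_one] at hc; omega

theorem c0_ne : D.c0 ≠ 0 := sub_ne_zero.2 D.mu_not_fixed

theorem star_c0 : star D.c0 = -D.c0 := by rw [c0, star_sub, star_star, neg_sub]

theorem zeta_norm : D.zeta * star D.zeta = 1 := by
  rw [zeta, D.hstar, ← pow_succ', ← pow_mul, D.pow_eq_one, D.sq_eq]

theorem zeta_ne_one : D.zeta ≠ 1 := by
  intro h
  rw [zeta, D.pow_eq_one] at h
  have h1 := Nat.le_of_dvd (by have := D.q3; omega) h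
  rw [D.sq_eq] at h1
  have := D.q3
  have h2 : (q - 1) * 2 ≤ (q - 1) * (q + 1) := Nat.mul_le_mul_left _ (by omega)
  omega

theorem fixed_pow {x : F} (hx : x ≠ 0) (hfix : star x = x) : ∃ k : ℕ, x = D.g ^ k := by
  obtain ⟨j, rfl⟩ := D.exists_pow hx
  have h1 : (D.t0 : F) ^ (j * (q - 1)) = 1 := by
    rw [D.hstar, ← pow_mul] at hfix
    refine mul_left_cancel₀ (pow_ne_zero j D.t0_ne) ?_
    rw [← pow_add, mul_one]
    refine Eq.trans ?_ hfix
    congr 1
    obtain ⟨k, hk⟩ : ∃ k, q = k + 1 := ⟨q - 1, by have := D.q3; omega⟩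
    rw [hk, Nat.add_sub_cancel]; ring
  rw [D.pow_eq_one, D.sq_eq, mul_comm j] at h1
  obtain ⟨c, rfl⟩ := Nat.dvd_of_mul_dvd_mul_left (by have := D.q3; omega) h1
  exact ⟨c, by rw [g_eq, ← pow_mul]⟩

theorem norm_one_pow {x : F} (h : x * star x = 1) : ∃ n : ℕ, x = D.zeta ^ n := by
  have hx : x ≠ 0 := by rintro rfl; simp at h
  obtain ⟨j, rfl⟩ := D.exists_pow hx
  rw [D.hstar, ← pow_succ', ← pow_mul, D.pow_eq_one, D.sq_eq] at h
  obtain ⟨c, rfl⟩ := Nat.dvd_of_mul_dvd_mul_right (by omega) h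
  exact ⟨c, by rw [zeta, ← pow_mul]⟩

theorem act_pow (k : ℕ) (v : Par F) :
    (Par.act (D.t0 ^ k) v).a = D.mu ^ k * v.a ∧ (Par.act (D.t0 ^ k) v).b = D.g ^ k * v.b := by
  induction k with
  | zero => simp [Par.act]
  | succ k ih =>
    rw [pow_succ', Par.act_act]
    refine ⟨?_, ?_⟩
    · show star (D.t0 : F) ^ 2 * (D.t0 : F)⁻¹ * (Par.act (D.t0 ^ k) v).a = _
      rw [ih.1, pow_succ' D.mu, mu]; ring
    · show (D.t0 : F) * star (D.t0 : F) * (Par.act (D.t0 ^ k) v).b = _
      rw [ih.2, pow_succ' D.g, g]; ring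

/-- The parameter of the seed above `x`. -/
def P1 (x : F) : Par F :=
  Par.mk' x (x * star x / (D.zeta - 1)) (by
    have h1 : D.zeta - 1 ≠ 0 := sub_ne_zero.2 D.zeta_ne_one
    have h2 : star D.zeta - 1 ≠ 0 := by
      intro h
      apply h1
      have := congrArg star h
      simpa using this
    rw [star_div₀, star_mul', star_star, star_sub, star_one]
    field_simp
    linear_combination x * star x * D.zeta_norm)

theorem P1_star_b (x : F) : star (D.P1 x).b = -D.zeta * (D.P1 x).b := by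
  have h1 : D.zeta - 1 ≠ 0 := sub_ne_zero.2 D.zeta_ne_one
  rw [Par.star_b]
  simp only [P1, Par.a_mk, Par.b_mk]
  field_simp
  ring

/-- Decomposition over the fixed field. -/
theorem decomp (x : F) : ∃ r s : F, star r = r ∧ star s = s ∧ x = r + D.mu * s := by
  have h0 : D.mu - star D.mu ≠ 0 := sub_ne_zero.2 (Ne.symm D.mu_not_fixed)
  have h0' : star D.mu - D.mu ≠ 0 := sub_ne_zero.2 D.mu_not_fixed
  set s := (x - star x) / (D.mu - star D.mu) with hs
  have hfix : star s = s := by
    rw [hs, star_div₀, star_sub, star_sub, star_star, star_star]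
    field_simp
    ring
  refine ⟨x - D.mu * s, s, ?_, hfix, by ring⟩
  rw [star_sub, star_mul', hfix, hs]
  field_simp
  ring

variable {G : Type*} [Group G] (S : Setup F G) (hS : S.t0 = D.t0)
include hS

theorem good_sk (hseed : S.Good (Par.sk D.c0 D.star_c0)) {s : F} (hs : star s = -s) (h0 : s ≠ 0) :
    S.Good (Par.sk s hs) := by
  have hfix : star (s / D.c0) = s / D.c0 := by rw [star_div₀, hs, D.star_c0, neg_div_neg_eq]
  obtain ⟨k, hk⟩ := D.fixed_pow (div_ne_zero h0 D.c0_ne) hfix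
  have h1 := S.good_act hseed (k : ℤ)
  rw [zpow_natCast, hS] at h1
  rw [show Par.sk s hs = Par.act (D.t0 ^ k) (Par.sk D.c0 D.star_c0) from
    Par.ext' (by rw [(D.act_pow k _).1]; simp [Par.sk]) (by
      rw [(D.act_pow k _).2]
      simp only [Par.sk, Par.b_mk]
      rw [← hk, div_mul_cancel₀ s D.c0_ne])]
  exact h1

theorem good_P1 (hseed : ∀ r < 3, S.Good (D.P1 ((D.t0 : F) ^ r))) {x : F} (hx : x ≠ 0) :
    S.Good (D.P1 x) := by
  obtain ⟨j, hj⟩ := D.exists_pow hx
  have h1 := S.good_act (hseed (j % 3) (Nat.mod_lt _ (by norm_num))) ((2 * q + 1) * (j / 3) : ℕ)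
  rw [zpow_natCast, hS] at h1
  set k := (2 * q + 1) * (j / 3) with hk
  have ha : D.mu ^ k * (D.t0 : F) ^ (j % 3) = x := by
    rw [hk, pow_mul, D.mu_cube, ← pow_mul, ← pow_add, Nat.div_add_mod, hj]
  have hb : star (D.mu ^ k) * D.mu ^ k = D.g ^ k := by
    rw [star_pow, ← mul_pow]
    congr 1
    rw [mu, g]
    simp only [star_mul', star_pow, star_inv₀, star_star]
    have := D.t0_ne
    have : star (D.t0 : F) ≠ 0 := star_ne_zero.2 D.t0_ne
    field_simp
  rw [show D.P1 x = Par.act (D.t0 ^ k) (D.P1 ((D.t0 : F) ^ (j % 3))) from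
    Par.ext' (by rw [(D.act_pow k _).1]; exact ha.symm) (by
      rw [(D.act_pow k _).2]
      simp only [P1, Par.b_mk]
      rw [← hb, ← ha, star_mul', star_pow]
      ring)]
  exact h1

/-- All products `w v w` lie in the big cell. -/
theorem good (hseed : ∀ r < 3, S.Good (D.P1 ((D.t0 : F) ^ r)))
    (hseed' : S.Good (Par.sk D.c0 D.star_c0)) : ∀ v : Par F, v.b ≠ 0 → S.Good v := by
  have main : ∀ (n : ℕ) (v : Par F), v.a ≠ 0 → -star v.b = D.zeta ^ (n + 1) * v.b → S.Good v := by
    intro n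
    induction n with
    | zero =>
      intro v ha hv
      have : v = D.P1 v.a := by
        refine Par.ext' rfl ?_
        simp only [P1, Par.b_mk]
        rw [eq_div_iff (sub_ne_zero.2 D.zeta_ne_one)]
        rw [v.star_b, pow_one] at hv
        linear_combination -hv
      rw [this]; exact D.good_P1 S hS hseed ha
    | succ n ih =>
      intro v ha hv
      set v0 := D.P1 v.a with hv0
      have hb0 : v0.b ≠ 0 := Par.b_ne_zero (by simpa [hv0, P1] using ha)
      set s := v.b - v0.b with hs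
      have hss : star s = -s := by
        rw [hs, star_sub, v.star_b, v0.star_b, show v0.a = v.a from rfl]; ring
      by_cases h0 : s = 0
      · rw [show v = v0 from Par.ext' rfl (sub_eq_zero.1 h0)]
        exact D.good_P1 S hS hseed ha
      have hv' : v = Par.pm v0 (Par.sk s hss) := by
        refine Par.ext' ?_ ?_ <;> simp [Par.pm, Par.sk, hs, hv0, P1]
      rw [hv']
      have hz : (Par.sk s hss).b ≠ 0 := by simpa [Par.sk] using h0
      refine S.good_step hb0 hz (D.good_P1 S hS hseed ha) (D.good_sk S hS hseed' hss h0) (ih _ ?_ ?_)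
      · simp [Par.pm, Par.rf, Par.lf, Par.sk, hv0, P1]
        refine ⟨ha, ?_⟩
        have h9 := star_ne_zero.2 hb0
        simp [hv0, P1, ha] at h9
        exact h9
      · have hb : v.b ≠ 0 := Par.b_ne_zero ha
        have h2 : star v0.b ≠ 0 := star_ne_zero.2 hb0
        have k1 := D.P1_star_b v.a
        rw [← hv0] at k1
        have e1 : (Par.pm (v0.rf hb0) ((Par.sk s hss).lf hz)).b = v0.b⁻¹ + s⁻¹ := by
          simp [Par.pm, Par.rf, Par.lf, Par.sk]
        have hsb : star v.b = -(D.zeta ^ (n + 1 + 1) * v.b) := by linear_combination -hv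
        have hz0 : D.zeta ≠ 0 := pow_ne_zero _ D.t0_ne
        rw [e1, star_add, star_inv₀, star_inv₀, hss, k1]
        have e2 : star s = -s := hss
        rw [hs, star_sub, hsb, k1] at e2
        have e3 : s = v.b - v0.b := hs
        field_simp
        rw [e3]
        linear_combination e2
  intro v hb
  by_cases ha : v.a = 0
  · have hs : star v.b = -v.b := by rw [v.star_b, ha]; ring
    rw [show v = Par.sk v.b hs from Par.ext' ha rfl]
    exact D.good_sk S hS hseed' hs hb
  · have hb' : star v.b ≠ 0 := star_ne_zero.2 hb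
    obtain ⟨n, hn⟩ := D.norm_one_pow (x := -star v.b / v.b) (by
      rw [star_div₀, star_neg, star_star]; field_simp)
    rcases n with _ | n
    · exfalso
      rw [pow_zero, div_eq_one_iff_eq hb] at hn
      have := v.eqn
      rw [← hn, star_neg, star_star, show -star v.b + -v.b = -(v.b + star v.b) by ring,
        show v.b + star v.b = v.b - -star v.b by ring, hn, sub_self, neg_zero, zero_add] at this
      exact mul_ne_zero ha (star_ne_zero.2 ha) this
    · exact main n v ha (by rw [← hn, div_mul_cancel₀ _ hb])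

end Prm

end Cfsg.Agent.Small.SU3Pres
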