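import Mathlib
import Cfsg.Agent.Lib.Small.SU3Pres.Field
import Cfsg.Agent.Lib.Small.UCover.Three

/-!
The fixed field, the sizes of the unipotent radical and of the three-dimensional special unitary
group, and the passage to the standard form.
-/

set_option autoImplicit false
set_option linter.unusedSectionVars false
set_option linter.style.haveILetI false

namespace Cfsg.Agent.Small.SU3Pres

open Matrix

variable {F : Type*} [Field F] [StarRing F] [Fintype F] {q : ℕ}

namespace Prm

variable (D : Prm F q)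

theorem g_pow_qsub : D.g ^ (q - 1) = 1 := by
  rw [g_eq, ← pow_mul, D.pow_eq_one, D.sq_eq, mul_comm (q + 1)]

include D in
theorem fixed_ncard : {x : F | star x = x}.ncard = q := by
  classical
  have hset : {x : F | star x = x} = insert 0 ((fun k => D.g ^ k) '' Set.Iio (q - 1)) := by
    ext x
    constructor
    · intro hx
      by_cases h0 : x = 0
      · exact Or.inl h0
      · obtain ⟨k, rfl⟩ := D.fixed_pow h0 hx
        refine Or.inr ⟨k % (q - 1), Nat.mod_lt _ (by have := D.q3; omega), ?_⟩
        conv_rhs => rw [← Nat.mod_add_div k (q - 1), pow_add, pow_mul, D.g_pow_qsub, one_pow, mul_one]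
    · rintro (rfl | ⟨k, -, rfl⟩)
      · exact star_zero _
      · exact D.g_pow_fixed k
  have hinj : Set.InjOn (fun k => D.g ^ k) (Set.Iio (q - 1)) := by
    intro i hi j hj hij
    simp only [g_eq, ← pow_mul] at hij
    rw [← Units.val_pow_eq_pow_val, ← Units.val_pow_eq_pow_val, Units.val_inj] at hij
    have hb : ∀ k, k < q - 1 → (q + 1) * k < orderOf D.t0 := fun k hk => by
      rw [D.order, D.sq_eq, mul_comm]
      exact Nat.mul_lt_mul_of_pos_right hk (Nat.succ_pos q)
    have := pow_injOn_Iio_orderOf (hb i hi) (hb j hj) hij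
    exact Nat.eq_of_mul_eq_mul_left (Nat.succ_pos q) this
  rw [hset, Set.ncard_insert_of_notMem (by rintro ⟨k, -, hk⟩; exact pow_ne_zero k D.g_ne hk),
    hinj.ncard_image, Set.ncard_eq_toFinset_card']
  simp only [Set.toFinset_Iio, Nat.card_Iio]
  have := D.q3
  omega

/-- The powers of the norm generator span the fixed field. -/
theorem exists_span (p : ℕ) [Fact p.Prime] [CharP F p] : ∃ e : ℕ, p ^ e = q ∧
    D.g ^ e ∈ AddSubgroup.closure ((fun k => D.g ^ k) '' Set.Iio e) ∧
    ∀ x : F, star x = x → x ∈ AddSubgroup.closure ((fun k => D.g ^ k) '' Set.Iio e) := by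
  classical
  letI := ZMod.algebra F p
  let C : ℕ → AddSubgroup F := fun j => AddSubgroup.closure ((fun k => D.g ^ k) '' Set.Iio j)
  have hsub : ∀ (j : ℕ) (x : F),
      x ∈ Submodule.span (ZMod p) (Set.range fun i : Fin j => D.g ^ (i : ℕ)) ↔ x ∈ C j := by
    intro j x
    constructor
    · intro hx
      refine Submodule.span_induction (p := fun x _ => x ∈ C j) ?_ (zero_mem _)
        (fun a b _ _ ha hb => add_mem ha hb) ?_ hx
      · rintro _ ⟨i, rfl⟩; exact AddSubgroup.subset_closure ⟨i, i.2, rfl⟩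
      · intro r a _ ha
        rw [show r • a = r.val • a by
          rw [← Nat.cast_smul_eq_nsmul (ZMod p) r.val, ZMod.natCast_zmod_val]]
        exact AddSubgroup.nsmul_mem _ ha _
    · intro hx
      have : C j ≤ (Submodule.span (ZMod p) (Set.range fun i : Fin j => D.g ^ (i : ℕ))).toAddSubgroup :=
        (AddSubgroup.closure_le _).2 (by
          rintro _ ⟨k, hk, rfl⟩; exact Submodule.subset_span ⟨⟨k, hk⟩, rfl⟩)
      exact this hx
  have hex : ∃ j, D.g ^ j ∈ C j := ⟨q - 1, by
    rw [D.g_pow_qsub, ← pow_zero D.g]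
    exact AddSubgroup.subset_closure ⟨0, by have := D.q3; simp; omega, rfl⟩⟩
  set e := Nat.find hex with he
  have hmin : ∀ j < e, D.g ^ j ∉ C j := fun j hj => Nat.find_min hex hj
  have hE : D.g ^ e ∈ C e := Nat.find_spec hex
  have hindep : ∀ j ≤ e, LinearIndependent (ZMod p) (fun i : Fin j => D.g ^ (i : ℕ)) := by
    intro j
    induction j with
    | zero => intro _; exact linearIndependent_empty_type
    | succ j ih =>
      intro hj
      rw [show (fun i : Fin (j + 1) => D.g ^ (i : ℕ)) = Fin.snoc (fun i : Fin j => D.g ^ (i : ℕ)) (D.g ^ j) from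
        funext fun i => by refine Fin.lastCases ?_ (fun i => ?_) i <;> simp]
      rw [linearIndependent_finSnoc]
      exact ⟨ih (by omega), fun h => hmin j (by omega) ((hsub j _).1 h)⟩
  have hstep : ∀ x ∈ C e, D.g * x ∈ C e := by
    intro x hx
    refine AddSubgroup.closure_induction (p := fun x _ => D.g * x ∈ C e) ?_ ?_ ?_ ?_ hx
    · rintro _ ⟨k, hk, rfl⟩
      simp only [← pow_succ']
      rcases Nat.lt_or_eq_of_le (show k + 1 ≤ e from hk) with h' | h'
      · exact AddSubgroup.subset_closure ⟨k + 1, h', rfl⟩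
      · rw [h']; exact hE
    · rw [mul_zero]; exact zero_mem _
    · intro a b _ _ ha hb; rw [mul_add]; exact add_mem ha hb
    · intro a _ ha; rw [mul_neg]; exact neg_mem ha
  have hpow : ∀ k, D.g ^ k ∈ C e := by
    intro k
    induction k with
    | zero =>
      rcases Nat.eq_zero_or_pos e with h0 | h0
      · rw [h0] at hE ⊢; exact hE
      · exact AddSubgroup.subset_closure ⟨0, h0, rfl⟩
    | succ k ih => rw [pow_succ']; exact hstep _ ih
  have hfix : ∀ x : F, star x = x → x ∈ C e := by
    intro x hx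
    by_cases h0 : x = 0
    · rw [h0]; exact zero_mem _
    · obtain ⟨k, rfl⟩ := D.fixed_pow h0 hx; exact hpow k
  have hfix' : ∀ x ∈ C e, star x = x := by
    intro x hx
    refine AddSubgroup.closure_induction (p := fun x _ => star x = x) ?_ (star_zero _) ?_ ?_ hx
    · rintro _ ⟨k, -, rfl⟩; exact D.g_pow_fixed k
    · intro a b _ _ ha hb; rw [star_add, ha, hb]
    · intro a _ ha; rw [star_neg, ha]
  refine ⟨e, ?_, hE, hfix⟩
  have h1 := Module.natCard_eq_pow_finrank (K := ZMod p)
    (V := Submodule.span (ZMod p) (Set.range fun i : Fin e => D.g ^ (i : ℕ)))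
  rw [finrank_span_eq_card (hindep e le_rfl), Fintype.card_fin, Nat.card_zmod] at h1
  rw [← h1]
  refine Eq.trans ?_ ((Nat.card_coe_set_eq {x : F | star x = x}).trans D.fixed_ncard)
  exact Nat.card_congr (Equiv.subtypeEquivRight fun x =>
    ⟨fun h => hfix' x ((hsub e x).1 h), fun h => (hsub e x).2 (hfix x h)⟩)

include D in
theorem card_par : Nat.card (Par F) = q ^ 3 := by
  let d : F → F := fun a => a * star a / (D.zeta - 1)
  have hd : ∀ a, star (d a) = -d a - a * star a := fun a => (D.P1 a).star_b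
  let eqv : F × {x : F // star x = x} ≃ Par F :=
    { toFun := fun t => Par.mk' t.1 (d t.1 + t.2.1 * D.c0) (by
        rw [star_add, hd, star_mul', t.2.2, D.star_c0]; ring)
      invFun := fun v => (v.a, ⟨(v.b - d v.a) / D.c0, by
        rw [star_div₀, star_sub, v.star_b, hd, D.star_c0, ← neg_div_neg_eq (v.b - d v.a)]
        congr 1
        ring⟩)
      left_inv := fun t => by
        refine Prod.ext rfl (Subtype.ext ?_)
        simp only [Par.a_mk, Par.b_mk]
        field_simp [D.c0_ne]
        ring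
      right_inv := fun v => Par.ext' rfl (by
        simp only [Par.b_mk]
        field_simp [D.c0_ne]
        ring) }
  rw [← Nat.card_congr eqv, Nat.card_prod, Nat.card_eq_fintype_card, D.hF]
  have : Nat.card {x : F // star x = x} = q := by
    have h := D.fixed_ncard
    rw [← Nat.card_coe_set_eq] at h
    exact h
  rw [this]; ring

end Prm

/-- The model is the special unitary group. -/
theorem exists_equiv (hstar : ∀ x : F, star x = x ^ q) (hF : Fintype.card F = q ^ 2) :
    Nonempty (U3 F ≃* Cfsg.SU 3 F q) := by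
  have hJu : IsUnit (antiJ F) := ⟨⟨antiJ F, antiJ F, antiJ_sq, antiJ_sq⟩, rfl⟩
  obtain ⟨P, ⟨P', rfl⟩, hP⟩ := Cfsg.Agent.Small.Hermitian.exists_congr_one hstar hF 3 (antiJ F) antiJ_herm hJu
  set A := (P' : Matrix (Fin 3) (Fin 3) F) with hA
  set B := ((P'⁻¹ : GL (Fin 3) F) : Matrix (Fin 3) (Fin 3) F) with hB
  have hAB : A * B = 1 := P'.mul_inv
  have hBA : B * A = 1 := P'.inv_mul
  have hBB : Bᴴ * B = antiJ F := by
    calc Bᴴ * B = Bᴴ * (Aᴴ * antiJ F * A) * B := by rw [hP, mul_one]
      _ = (A * B)ᴴ * antiJ F * (A * B) := by simp only [conjTranspose_mul, mul_assoc]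
      _ = antiJ F := by rw [hAB, conjTranspose_one, one_mul, mul_one]
  have hd : ∀ M : Matrix (Fin 3) (Fin 3) F, M.det = 1 → (B * M * A).det = 1 := fun M hM => by
    rw [det_mul, det_mul, hM, mul_one, ← det_mul, hBA, det_one]
  have hd' : ∀ M : Matrix (Fin 3) (Fin 3) F, M.det = 1 → (A * M * B).det = 1 := fun M hM => by
    rw [det_mul, det_mul, hM, mul_one, ← det_mul, hAB, det_one]
  refine ⟨
    { toFun := fun g => Cfsg.Agent.Small.Unitary.mkSU hstar (B * mv g * A) ?_ (hd _ (mv_det g))
      invFun := fun s => ⟨⟨A * s.1.1 * B, hd' _ s.1.2⟩, ?_⟩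
      left_inv := ?_
      right_inv := ?_
      map_mul' := ?_ }⟩
  · calc (B * mv g * A)ᴴ * (B * mv g * A) = Aᴴ * ((mv g)ᴴ * (Bᴴ * B) * mv g) * A := by
          simp only [conjTranspose_mul, mul_assoc]
      _ = 1 := by rw [hBB, mv_form, hP]
  · show (A * s.1.1 * B)ᴴ * antiJ F * (A * s.1.1 * B) = antiJ F
    calc (A * s.1.1 * B)ᴴ * antiJ F * (A * s.1.1 * B)
        = Bᴴ * (s.1.1ᴴ * (Aᴴ * antiJ F * A) * s.1.1) * B := by simp only [conjTranspose_mul, mul_assoc]
      _ = antiJ F := by
          rw [hP, mul_one, Cfsg.Agent.Small.Unitary.conjTranspose_mul_self hstar, mul_one, hBB]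
  · intro g
    refine Subtype.ext (Subtype.ext ?_)
    show A * (B * mv g * A) * B = mv g
    calc A * (B * mv g * A) * B = (A * B) * mv g * (A * B) := by simp only [mul_assoc]
      _ = mv g := by rw [hAB, one_mul, mul_one]
  · intro s
    refine Subtype.ext (Subtype.ext ?_)
    show B * (A * s.1.1 * B) * A = s.1.1
    calc B * (A * s.1.1 * B) * A = (B * A) * s.1.1 * (B * A) := by simp only [mul_assoc]
      _ = s.1.1 := by rw [hBA, one_mul, mul_one]
  · intro g g'
    refine Subtype.ext (Subtype.ext ?_)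
    show B * (mv g * mv g') * A = B * mv g * A * (B * mv g' * A)
    calc B * (mv g * mv g') * A = B * mv g * (A * B) * mv g' * A := by
          rw [hAB, mul_one]; simp only [mul_assoc]
      _ = _ := by simp only [mul_assoc]

theorem card_U3 (D : Prm F q) : Nat.card (U3 F) = q ^ 3 * (q ^ 2 - 1) * (1 + q ^ 3) := by
  obtain ⟨e⟩ := exists_equiv D.hstar D.hF
  obtain ⟨k, hk⟩ : ∃ k, q = k + 1 := ⟨q - 1, by have := D.q3; omega⟩
  rw [Nat.card_congr e.toEquiv,
    Cfsg.Agent.Small.UCover.card_SU_three (hstar := D.hstar) D.hF hk, D.sq_eq, hk, Nat.add_sub_cancel]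
  ring

end Cfsg.Agent.Small.SU3Pres
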