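import Mathlib
import Cfsg.Agent.Lib.Small.SU3Pres.Count

/-!
Short presentations of the three-dimensional special and projective special unitary groups.
-/

set_option autoImplicit false
set_option linter.unusedSectionVars false
set_option linter.style.haveILetI false

namespace Cfsg.Agent.Small.SU3Pres

open Subgroup
open scoped commutatorElement

variable {F : Type*} [Field F] [StarRing F] [Fintype F] {q : ℕ}

theorem act_zero (t : Fˣ) (v : Par F) (hv : v.a = 0) : (Par.act t v).a = 0 := by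
  show _ * v.a = 0
  rw [hv, mul_zero]

theorem central_commute (v w : Par F) (hv : v.a = 0) : Commute (nu v) (nu w) := by
  show _ = _
  rw [nu_mul, nu_mul]
  refine congrArg nu (Par.ext' ?_ ?_) <;> simp [Par.pm, hv] <;> ring

theorem comm_nu (v w : Par F) : ∃ (s : F) (hs : star s = -s),
    s = star w.a * v.a - star v.a * w.a ∧ ⁅nu v, nu w⁆ = nu (Par.sk s hs) := by
  have hs : star (star w.a * v.a - star v.a * w.a) = -(star w.a * v.a - star v.a * w.a) := by
    simp only [star_sub, star_mul', star_star]; ring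
  refine ⟨_, hs, rfl, ?_⟩
  have h1 : nu v * nu w = nu (Par.sk _ hs) * (nu w * nu v) := by
    rw [nu_mul, nu_mul, nu_mul]
    refine congrArg nu (Par.ext' ?_ ?_) <;> simp [Par.pm, Par.sk] <;> ring
  rw [commutatorElement_def, h1]; group

theorem cz_nu (t : Fˣ) (v : Par F) (k : ℤ) : cz (dgU t) (nu v) k = nu (Par.act (t ^ k) v) := by
  rw [cz, ← dgHom_apply, ← map_zpow, dgHom_apply, dgU_nu, mul_inv_cancel_right]

/-- First coordinates occurring in a subgroup. -/
def aset (K : Subgroup (U3 F)) : AddSubgroup F where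
  carrier := {x | ∃ v : Par F, v.a = x ∧ nu v ∈ K}
  zero_mem' := ⟨Par.zp, rfl, by rw [nu_zero]; exact one_mem _⟩
  add_mem' := by
    rintro _ _ ⟨v, rfl, hv⟩ ⟨w, rfl, hw⟩
    exact ⟨Par.pm v w, rfl, by rw [← nu_mul]; exact mul_mem hv hw⟩
  neg_mem' := by
    rintro _ ⟨v, rfl, hv⟩
    exact ⟨v.neg, rfl, by rw [← nu_inv]; exact inv_mem hv⟩

namespace Prm

variable (D : Prm F q)

/-- The unipotent generator. -/
def uM : U3 F := nu (D.P1 1)

/-- The torus generator. -/
def hM : U3 F := dgU D.t0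

theorem hM_pow : D.hM ^ (q ^ 2 - 1) = 1 := by
  rw [hM, ← dgHom_apply, ← map_pow, ← map_one (dgHom (F := F))]
  congr 1
  rw [← D.order]; exact pow_orderOf_eq_one _

theorem cz_nat (v : Par F) (k : ℕ) : cz D.hM (nu v) k = nu (Par.act (D.t0 ^ k) v) := by
  rw [hM, cz_nu, zpow_natCast]

theorem exists_cz_u (k : ℕ) : ∃ v : Par F, cz D.hM D.uM k = nu v ∧ v.a = D.mu ^ k :=
  ⟨_, D.cz_nat _ k, by rw [(D.act_pow k _).1]; simp [P1]⟩

theorem mu_norm : D.mu * star D.mu = D.g := by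
  rw [mu, g]
  simp only [star_mul', star_pow, star_inv₀, star_star]
  have := D.t0_ne
  have : star (D.t0 : F) ≠ 0 := star_ne_zero.2 D.t0_ne
  field_simp

theorem mu_pow_succ : D.mu ^ (q + 1) = D.g := by
  rw [pow_succ', ← D.hstar, D.mu_norm]

theorem zel_model : zel D.hM D.uM = nu (Par.sk D.c0 D.star_c0) := by
  obtain ⟨v, hv, ha⟩ := D.exists_cz_u 1
  rw [zel, show cz D.hM D.uM 1 = nu v from hv]
  obtain ⟨s, hs, es, e⟩ := comm_nu (D.P1 1) v
  have e1 : s = D.c0 := by rw [es, ha]; simp [P1, c0]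
  subst e1
  exact e

theorem cz_z (k : ℕ) : ∃ (s : F) (hs : star s = -s), s = D.g ^ k * D.c0 ∧
    cz D.hM (zel D.hM D.uM) k = nu (Par.sk s hs) := by
  refine ⟨_, ?_, rfl, ?_⟩
  · rw [star_mul', D.g_pow_fixed, D.star_c0, mul_neg]
  · rw [zel_model, D.cz_nat]
    refine congrArg nu (Par.ext' ?_ ?_)
    · exact act_zero _ _ rfl
    · rw [(D.act_pow k _).2]; rfl

theorem mem_zsub (v : Par F) (hv : v.a = 0) : nu v ∈ zsub D.hM D.uM := by
  by_cases hb : v.b = 0
  · rw [show v = Par.zp from Par.ext' hv hb, nu_zero]; exact one_mem _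
  have hs : star v.b = -v.b := by rw [v.star_b, hv]; ring
  obtain ⟨k, hk⟩ := D.fixed_pow (div_ne_zero hb D.c0_ne) (by rw [star_div₀, hs, D.star_c0, neg_div_neg_eq])
  obtain ⟨s, hs', e1, e2⟩ := D.cz_z k
  refine subset_closure ⟨(k : ℤ), ?_⟩
  rw [e2]
  refine congrArg nu (Par.ext' hv.symm ?_)
  show s = v.b
  rw [e1, ← hk, div_mul_cancel₀ _ D.c0_ne]

theorem full_of_aset (K : Subgroup (U3 F)) (hK : zsub D.hM D.uM ≤ K) (v : Par F)
    (hv : v.a ∈ aset K) : nu v ∈ K := by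
  obtain ⟨w, hw, hwK⟩ := hv
  obtain ⟨s, hs, e⟩ := Par.eq_mul_sk v w hw.symm
  rw [e]; exact mul_mem hwK (hK (D.mem_zsub _ rfl))

/-- The generating set of the radical. -/
theorem mem_orbit_closure (v : Par F) :
    nu v ∈ closure ((Set.range fun n : ℤ => cz D.hM D.uM (((q + 1 : ℕ) : ℤ) * n)) ∪
      (Set.range fun n : ℤ => cz D.hM D.uM (((q + 1 : ℕ) : ℤ) * n + 1)) ∪
      Set.range (cz D.hM (zel D.hM D.uM))) := by
  set K := closure ((Set.range fun n : ℤ => cz D.hM D.uM (((q + 1 : ℕ) : ℤ) * n)) ∪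
      (Set.range fun n : ℤ => cz D.hM D.uM (((q + 1 : ℕ) : ℤ) * n + 1)) ∪
      Set.range (cz D.hM (zel D.hM D.uM))) with hK
  have hZ : zsub D.hM D.uM ≤ K := closure_mono Set.subset_union_right
  refine D.full_of_aset K hZ v ?_
  have h1 : ∀ n : ℕ, D.g ^ n ∈ aset K ∧ D.mu * D.g ^ n ∈ aset K := by
    intro n
    obtain ⟨v1, e1, a1⟩ := D.exists_cz_u ((q + 1) * n)
    obtain ⟨v2, e2, a2⟩ := D.exists_cz_u ((q + 1) * n + 1)
    refine ⟨⟨v1, by rw [a1, pow_mul, D.mu_pow_succ], ?_⟩,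
      ⟨v2, by rw [a2, pow_succ', pow_mul, D.mu_pow_succ], ?_⟩⟩
    · rw [← e1]
      exact subset_closure (Or.inl (Or.inl ⟨n, by push_cast; rfl⟩))
    · rw [← e2]
      exact subset_closure (Or.inl (Or.inr ⟨n, by push_cast; rfl⟩))
  obtain ⟨r, s, hr, hs, e⟩ := D.decomp v.a
  rw [e]
  refine add_mem ?_ ?_
  · by_cases h0 : r = 0
    · rw [h0]; exact zero_mem _
    · obtain ⟨n, rfl⟩ := D.fixed_pow h0 hr; exact (h1 n).1
  · by_cases h0 : s = 0
    · rw [h0, mul_zero]; exact zero_mem _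
    · obtain ⟨n, rfl⟩ := D.fixed_pow h0 hs; exact (h1 n).2

theorem mem_usub_model (v : Par F) : nu v ∈ usub D.hM D.uM := by
  refine (closure_le _).2 ?_ (D.mem_orbit_closure v)
  rintro _ ((⟨n, rfl⟩ | ⟨n, rfl⟩) | ⟨n, rfl⟩)
  · exact subset_closure ⟨_, rfl⟩
  · exact subset_closure ⟨_, rfl⟩
  · exact Rels.conj_u Rels.z_mem_u _

theorem pow_a (v : Par F) (k : ℕ) : ∃ w : Par F, nu v ^ k = nu w ∧ w.a = k * v.a := by
  induction k with
  | zero => exact ⟨Par.zp, by rw [pow_zero, nu_zero], by simp [Par.zp]⟩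
  | succ k ih =>
    obtain ⟨w, e, a⟩ := ih
    exact ⟨Par.pm w v, by rw [pow_succ, e, nu_mul], by simp [Par.pm, a]; ring⟩

theorem exists_l (hq : 3 < q) : ∃ l : ℕ, D.g ^ l = D.g + 1 := by
  have h0 : D.g + 1 ≠ 0 := by
    intro h
    have h2 : D.g ^ 2 = 1 := by rw [eq_neg_of_add_eq_zero_left h]; ring
    rw [g_eq, ← pow_mul, D.pow_eq_one, D.sq_eq, mul_comm (q + 1) 2] at h2
    have := Nat.le_of_dvd (by norm_num) (Nat.dvd_of_mul_dvd_mul_right (Nat.succ_pos q) h2)
    have := D.q3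
    omega
  obtain ⟨k, hk⟩ := D.fixed_pow h0 (by rw [star_add, D.star_g, star_one])
  exact ⟨k, hk.symm⟩

end Prm

theorem exists_word {X Y : Type*} [Group X] [Group Y] (ψ : X →* Y) (S : Set X) {y : Y}
    (hy : y ∈ closure (ψ '' S)) : ∃ c ∈ closure S, ψ c = y := by
  rw [← MonoidHom.map_closure] at hy
  exact hy

theorem image_range {ι X Y : Type*} (φ : X → Y) (f : ι → X) :
    φ '' Set.range f = Set.range fun i => φ (f i) := (Set.range_comp φ f).symm

open scoped Classical in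
set_option maxHeartbeats 1000000 in
/-- The presentation of the model. -/
theorem presentation (D : Prm F q) (hq3 : 3 < q) :
    ∃ rels : Finset (FreeGroup (Fin 3)), rels.card ≤ 22 ∧
      ∃ π : PresentedGroup (↑rels : Set (FreeGroup (Fin 3))) ≃* U3 F,
        π (PresentedGroup.of 1) = D.hM := by
  obtain ⟨p, hp⟩ := CharP.exists F
  haveI := hp
  haveI : Fact p.Prime := ⟨CharP.char_is_prime F p⟩
  obtain ⟨e, hpe, hge, -⟩ := D.exists_span p
  obtain ⟨l, hl⟩ := D.exists_l hq3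
  set U : FreeGroup (Fin 3) := FreeGroup.of 0 with hU
  set H : FreeGroup (Fin 3) := FreeGroup.of 1 with hH
  set W : FreeGroup (Fin 3) := FreeGroup.of 2 with hW
  let ψ : FreeGroup (Fin 3) →* U3 F := FreeGroup.lift ![D.uM, D.hM, wU]
  have ψU : ψ U = D.uM := by simp [ψ, hU]
  have ψH : ψ H = D.hM := by simp [ψ, hH]
  have ψW : ψ W = wU := by simp [ψ, hW]
  have ψcz : ∀ (v : FreeGroup (Fin 3)) (k : ℤ), ψ (cz H v k) = cz D.hM (ψ v) k := fun v k => by
    rw [map_cz, ψH]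
  set Z := zel H U with hZ
  have ψZ : ψ Z = zel D.hM D.uM := by
    simp only [hZ, zel, map_commutatorElement, ψcz, ψU]
  set m : ℤ := ((q + 1 : ℕ) : ℤ) with hm
  set S15 := (Set.range fun n : ℤ => cz H U (m * n)) ∪
    (Set.range fun n : ℤ => cz H U (m * n + 1)) ∪ Set.range (cz H Z) with hS15
  have zs : ∀ v : Par F, v.a = 0 → ∃ c ∈ zsub H U, ψ c = nu v := by
    intro v hv
    refine exists_word ψ _ ?_
    rw [image_range]
    simp only [ψcz, ← hZ, ψZ]
    exact D.mem_zsub v hv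
  have us : ∀ v : Par F, ∃ c ∈ usub H U, ψ c = nu v := by
    intro v
    refine exists_word ψ _ ?_
    rw [image_range]
    simp only [ψcz, ψU]
    exact D.mem_usub_model v
  -- the chosen right hand sides
  obtain ⟨c4, hc4, e4⟩ : ∃ c ∈ zsub H U, ψ (cz H U (m * (l : ℤ))) = ψ (U * cz H U m * c) := by
    obtain ⟨v, hv, av⟩ := D.exists_cz_u ((q + 1) * l)
    obtain ⟨w, hw, aw⟩ := D.exists_cz_u (q + 1)
    obtain ⟨s, hs, es⟩ := Par.eq_mul_sk v (Par.pm (D.P1 1) w) (by
      rw [av, pow_mul, D.mu_pow_succ, hl]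
      show _ = (1 : F) + w.a
      rw [aw, D.mu_pow_succ, add_comm])
    obtain ⟨c, hc, ec⟩ := zs (Par.sk s hs) rfl
    refine ⟨c, hc, ?_⟩
    rw [map_mul, map_mul, ψcz, ψcz, ψU, ec, hm, ← Nat.cast_mul, hv, es, hw, ← nu_mul]
    rfl
  obtain ⟨c6, hc6, e6⟩ : ∃ c ∈ zsub H U, ψ ⁅U, cz H U (m + 1)⁆ = ψ c := by
    obtain ⟨v, hv, -⟩ := D.exists_cz_u (q + 1 + 1)
    obtain ⟨s, hs, -, es⟩ := comm_nu (D.P1 1) v
    obtain ⟨c, hc, ec⟩ := zs (Par.sk s hs) rfl
    refine ⟨c, hc, ?_⟩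
    rw [ec, map_commutatorElement, ψcz, ψU, hm, ← Nat.cast_succ, hv, ← es]
    rfl
  obtain ⟨c15, hc15, e15⟩ : ∃ c ∈ closure S15, ψ (cz H U 2) = ψ c := by
    obtain ⟨v, hv, -⟩ := D.exists_cz_u 2
    obtain ⟨c, hc, ec⟩ := exists_word ψ S15 (y := nu v) (by
      rw [hS15, Set.image_union, Set.image_union, image_range, image_range, image_range]
      simp only [ψcz, ψU, ψZ, hm]
      exact D.mem_orbit_closure v)
    exact ⟨c, hc, by rw [ec, ψcz, ψU, ← hv]; norm_cast⟩
  obtain ⟨c16, hc16, e16⟩ : ∃ c ∈ zsub H U, ψ (U ^ p) = ψ c := by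
    obtain ⟨w, hw, aw⟩ := Prm.pow_a (D.P1 1) p
    obtain ⟨c, hc, ec⟩ := zs w (by rw [aw, CharP.cast_eq_zero, zero_mul])
    exact ⟨c, hc, by rw [ec, map_pow, ψU, ← hw]; rfl⟩
  obtain ⟨c17, hc17, e17⟩ : ∃ c ∈ closure ((fun k : ℕ => cz H U (m * k)) '' Set.Iio e) ⊔ zsub H U,
      ψ (cz H U (m * e)) = ψ c := by
    set K := (closure ((fun k : ℕ => cz H U (m * k)) '' Set.Iio e) ⊔ zsub H U).map ψ with hK
    have hZK : zsub D.hM D.uM ≤ K := by
      refine (closure_le _).2 ?_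
      rintro _ ⟨k, rfl⟩
      exact ⟨cz H Z k, Subgroup.mem_sup_right (subset_closure ⟨k, rfl⟩), by rw [ψcz, ψZ]⟩
    obtain ⟨v, hv, av⟩ := D.exists_cz_u ((q + 1) * e)
    have ha : v.a ∈ aset K := by
      rw [av, pow_mul, D.mu_pow_succ]
      refine (AddSubgroup.closure_le _).2 ?_ hge
      rintro _ ⟨k, hk, rfl⟩
      obtain ⟨w, hw, aw⟩ := D.exists_cz_u ((q + 1) * k)
      refine ⟨w, by rw [aw, pow_mul, D.mu_pow_succ], ?_⟩
      refine ⟨cz H U (m * k), Subgroup.mem_sup_left (subset_closure ⟨k, hk, rfl⟩), ?_⟩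
      rw [ψcz, ψU, ← hw, hm, ← Nat.cast_mul]
    obtain ⟨c, hc, ec⟩ := D.full_of_aset K hZK v ha
    exact ⟨c, hc, by rw [ec, ψcz, ψU, hm, ← Nat.cast_mul, hv]⟩
  obtain ⟨c18, hc18, e18⟩ : ∃ c ∈ closure ((fun k : ℕ => cz H Z k) '' Set.Iio e),
      ψ (cz H Z (e : ℤ)) = ψ c := by
    let K := (closure ((fun k : ℕ => cz H Z k) '' Set.Iio e)).map ψ
    have key : ∀ r ∈ AddSubgroup.closure ((fun k => D.g ^ k) '' Set.Iio e),
        ∃ v : Par F, v.a = 0 ∧ v.b = r * D.c0 ∧ nu v ∈ K := by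
      intro r hr
      refine AddSubgroup.closure_induction
        (p := fun r _ => ∃ v : Par F, v.a = 0 ∧ v.b = r * D.c0 ∧ nu v ∈ K) ?_ ?_ ?_ ?_ hr
      · rintro _ ⟨k, hk, rfl⟩
        obtain ⟨s, hs, es, e1⟩ := D.cz_z k
        exact ⟨Par.sk s hs, rfl, es, cz H Z k, subset_closure ⟨k, hk, rfl⟩, by rw [ψcz, ψZ, e1]⟩
      · exact ⟨Par.zp, rfl, by simp [Par.zp], by rw [nu_zero]; exact one_mem _⟩
      · rintro a b - - ⟨v, hva, hvb, hvK⟩ ⟨w, hwa, hwb, hwK⟩
        refine ⟨Par.pm v w, by simp [Par.pm, hva, hwa], by simp [Par.pm, hva, hvb, hwb]; ring, ?_⟩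
        rw [← nu_mul]; exact mul_mem hvK hwK
      · rintro a - ⟨v, hva, hvb, hvK⟩
        refine ⟨v.neg, by simp [Par.neg, hva], ?_, by rw [← nu_inv]; exact inv_mem hvK⟩
        show star v.b = _
        rw [v.star_b, hva, hvb]; ring
    obtain ⟨v, hva, hvb, c, hc, ec⟩ := key _ hge
    obtain ⟨s, hs, es, e1⟩ := D.cz_z e
    refine ⟨c, hc, ?_⟩
    rw [ψcz, ψZ, e1, ec]
    exact congrArg nu (Par.ext' hva.symm (es.trans hvb.symm))
  -- the seeds
  let v19 : Par F := Par.sk D.c0 D.star_c0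
  let seed : Fin 4 → Par F := ![D.P1 1, D.P1 ((D.t0 : F) ^ 1), D.P1 ((D.t0 : F) ^ 2), v19]
  have hseedb : ∀ i, (seed i).b ≠ 0 := by
    intro i
    fin_cases i
    · exact Par.b_ne_zero (show (1 : F) ≠ 0 from one_ne_zero)
    · exact Par.b_ne_zero (show (D.t0 : F) ^ 1 ≠ 0 from pow_ne_zero _ D.t0_ne)
    · exact Par.b_ne_zero (show (D.t0 : F) ^ 2 ≠ 0 from pow_ne_zero _ D.t0_ne)
    · exact D.c0_ne
  have hsd : ∀ i, ∃ V ∈ usub H U, ∃ A ∈ usub H U, ∃ B ∈ usub H U, ∃ k : ℕ,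
      ψ V = nu (seed i) ∧ ψ (W * V * W) = ψ (A * H ^ k * W * B) := by
    intro i
    obtain ⟨V, hV, eV⟩ := us (seed i)
    obtain ⟨A, hA, eA⟩ := us ((seed i).lf (hseedb i))
    obtain ⟨B, hB, eB⟩ := us ((seed i).rf (hseedb i))
    obtain ⟨k, hk⟩ := mem_powers_iff_mem_zpowers.2 (D.gen ((seed i).tf (hseedb i)))
    refine ⟨V, hV, A, hA, B, hB, k, eV, ?_⟩
    simp only [map_mul, map_pow, ψW, ψH, eV, eA, eB]
    rw [wU_nu_wU _ (hseedb i), ← hk, Prm.hM, ← dgHom_apply, ← dgHom_apply, map_pow]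
  choose V hV A hA B hB kk eV eS using hsd
  let r : Fin 22 → FreeGroup (Fin 3) :=
    ![H ^ (q ^ 2 - 1), W * H * W * H ^ q, W * W,
      cz H Z m * (cz H Z 2)⁻¹,
      cz H Z (m * (l : ℤ)) * (Z * cz H Z 1 ^ 2 * cz H Z 2)⁻¹,
      ⁅Z, cz H Z 1⁆, ⁅Z, cz H Z 2⁆,
      ⁅U, cz H Z (-2)⁆, ⁅U, cz H Z (-1)⁆, ⁅U, cz H Z 0⁆, ⁅U, cz H Z 1⁆,
      cz H U (m * (l : ℤ)) * (U * cz H U m * c4)⁻¹,
      ⁅U, cz H U m⁆,
      ⁅U, cz H U (m + 1)⁆ * c6⁻¹,
      cz H U 2 * c15⁻¹,
      U ^ p * c16⁻¹,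
      cz H U (m * e) * c17⁻¹,
      cz H Z (e : ℤ) * c18⁻¹,
      W * V 0 * W * (A 0 * H ^ kk 0 * W * B 0)⁻¹,
      W * V 1 * W * (A 1 * H ^ kk 1 * W * B 1)⁻¹,
      W * V 2 * W * (A 2 * H ^ kk 2 * W * B 2)⁻¹,
      W * V 3 * W * (A 3 * H ^ kk 3 * W * B 3)⁻¹]
  let rels : Finset (FreeGroup (Fin 3)) := Finset.univ.image r
  refine ⟨rels, Finset.card_image_le.trans (by simp), ?_⟩
  -- the relations hold in the model
  have hdiv : ∀ a b : FreeGroup (Fin 3), ψ a = ψ b → ψ (a * b⁻¹) = 1 := fun a b h => by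
    rw [map_mul, map_inv, h, mul_inv_cancel]
  have hcomm : ∀ a b : FreeGroup (Fin 3), Commute (ψ a) (ψ b) → ψ ⁅a, b⁆ = 1 := fun a b h => by
    rw [map_commutatorElement, commutatorElement_eq_one_iff_commute.2 h]
  have ucomm : ∀ k : ℤ, Commute (ψ U) (ψ (cz H Z k)) := by
    intro k
    rw [ψcz, ψU, ψZ, D.zel_model, Prm.hM, cz_nu]
    exact (central_commute _ _ (act_zero _ _ rfl)).symm
  have zcomm : ∀ k : ℤ, Commute (ψ Z) (ψ (cz H Z k)) := by
    intro k
    rw [ψcz, ψZ, D.zel_model, Prm.hM, cz_nu]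
    exact central_commute _ _ rfl
  have hψ : ∀ i, ψ (r i) = 1 := by
    intro i
    fin_cases i
    · show ψ (H ^ (q ^ 2 - 1)) = 1
      rw [map_pow, ψH, D.hM_pow]
    · show ψ (W * H * W * H ^ q) = 1
      rw [map_mul, map_mul, map_mul, map_pow, ψH, ψW, Prm.hM, wU_dgU, ← dgHom_apply,
        ← dgHom_apply, ← map_pow, ← map_mul, ← map_one (dgHom (F := F))]
      congr 1
      refine Units.ext ?_
      rw [Units.val_mul, Units.val_pow_eq_pow_val, ← D.hstar, Units.val_one]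
      exact inv_mul_cancel₀ (star_ne_zero.2 D.t0_ne)
    · show ψ (W * W) = 1
      rw [map_mul, ψW, wU_sq]
    · refine hdiv _ _ ?_
      obtain ⟨s, hs, es, e1⟩ := D.cz_z (q + 1)
      obtain ⟨s', hs', es', e2⟩ := D.cz_z 2
      rw [ψcz, ψcz, ψZ, show (2 : ℤ) = ((2 : ℕ) : ℤ) from rfl, hm, e1, e2]
      refine congrArg nu (Par.ext' rfl ?_)
      show s = s'
      rw [es, es']
      congr 1
      rw [show q + 1 = q - 1 + 2 by have := D.q3; omega, pow_add, D.g_pow_qsub, one_mul]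
    · refine hdiv _ _ ?_
      obtain ⟨s, hs, es, e1⟩ := D.cz_z ((q + 1) * l)
      obtain ⟨s', hs', es', e2⟩ := D.cz_z 2
      obtain ⟨s'', hs'', es'', e3⟩ := D.cz_z 1
      rw [map_mul, map_mul, map_pow, ψcz, ψcz, ψcz, ψZ, hm, ← Nat.cast_mul, e1,
        show (2 : ℤ) = ((2 : ℕ) : ℤ) from rfl, show (1 : ℤ) = ((1 : ℕ) : ℤ) from rfl, e2, e3,
        D.zel_model, sq, nu_mul, nu_mul, nu_mul]
      refine congrArg nu (Par.ext' ?_ ?_)
      · simp [Par.pm, Par.sk]
      · simp [Par.pm, Par.sk, es, es', es'']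
        rw [pow_mul, show q + 1 = q - 1 + 2 by have := D.q3; omega, pow_add, D.g_pow_qsub, one_mul,
          ← pow_mul, mul_comm 2 l, pow_mul, hl]
        ring
    · exact hcomm _ _ (zcomm _)
    · exact hcomm _ _ (zcomm _)
    · exact hcomm _ _ (ucomm _)
    · exact hcomm _ _ (ucomm _)
    · exact hcomm _ _ (ucomm _)
    · exact hcomm _ _ (ucomm _)
    · exact hdiv _ _ e4
    · refine hcomm _ _ ?_
      obtain ⟨v, hv, av⟩ := D.exists_cz_u (q + 1)
      rw [ψcz, ψU, hm, hv, Prm.uM]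
      show _ = _
      rw [nu_mul, nu_mul]
      refine congrArg nu (Par.ext' ?_ ?_)
      · simp [Par.pm, add_comm]
      · simp [Par.pm, Prm.P1, av, D.mu_pow_succ, D.star_g]
        ring
    · exact hdiv _ _ e6
    · exact hdiv _ _ e15
    · exact hdiv _ _ e16
    · exact hdiv _ _ e17
    · exact hdiv _ _ e18
    · exact hdiv _ _ (eS 0)
    · exact hdiv _ _ (eS 1)
    · exact hdiv _ _ (eS 2)
    · exact hdiv _ _ (eS 3)
  have hrels : ∀ x ∈ (↑rels : Set (FreeGroup (Fin 3))), FreeGroup.lift ![D.uM, D.hM, wU] x = 1 := by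
    intro x hx
    obtain ⟨i, -, rfl⟩ := Finset.mem_image.1 (Finset.mem_coe.1 hx)
    exact hψ i
  let μG := PresentedGroup.mk (↑rels : Set (FreeGroup (Fin 3)))
  let f := PresentedGroup.toGroup hrels
  have fμ : ∀ x, f (μG x) = ψ x := fun x => rfl
  have h1 : ∀ i : Fin 22, μG (r i) = 1 := fun i =>
    PresentedGroup.one_of_mem (Finset.mem_coe.2 (Finset.mem_image_of_mem r (Finset.mem_univ i)))
  have heq : ∀ a b, μG (a * b⁻¹) = 1 → μG a = μG b := fun a b h => by
    rwa [map_mul, map_inv, mul_inv_eq_one] at h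
  have hcm : ∀ a b, μG ⁅a, b⁆ = 1 → Commute (μG a) (μG b) := fun a b h => by
    rwa [map_commutatorElement, commutatorElement_eq_one_iff_commute] at h
  have μcz : ∀ v k, μG (cz H v k) = cz (μG H) (μG v) k := fun v k => map_cz μG H v k
  have μZ : μG Z = zel (μG H) (μG U) := by
    simp only [hZ, zel, map_commutatorElement, μcz]
  have μzs : ∀ c ∈ zsub H U, μG c ∈ zsub (μG H) (μG U) := by
    intro c hc
    have := Subgroup.mem_map_of_mem μG hc
    rw [zsub, MonoidHom.map_closure, image_range] at this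
    simp only [μcz, ← hZ, μZ] at this
    exact this
  have μus : ∀ c ∈ usub H U, μG c ∈ usub (μG H) (μG U) := by
    intro c hc
    have := Subgroup.mem_map_of_mem μG hc
    rw [usub, MonoidHom.map_closure, image_range] at this
    simp only [μcz] at this
    exact this
  have hR : Rels (μG H) (μG U) m (l : ℤ) p e (q ^ 2 - 1) :=
    { p_pos := (Fact.out : p.Prime).pos
      N_pos := by rw [D.sq_eq]; have := D.q3; exact Nat.mul_pos (by omega) (by omega)
      hN := by rw [← map_pow]; exact h1 0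
      zx := by rw [← μZ, ← μcz, ← μcz]; exact heq _ _ (h1 3)
      zy := by rw [← μZ, ← μcz, ← μcz, ← μcz, ← map_pow, ← map_mul, ← map_mul]; exact heq _ _ (h1 4)
      z1 := by rw [← μZ, ← μcz]; exact hcm _ _ (h1 5)
      z2 := by rw [← μZ, ← μcz]; exact hcm _ _ (h1 6)
      uz := by
        intro k hk1 hk2
        rw [← μZ, ← μcz]
        rcases (show k = -2 ∨ k = -1 ∨ k = 0 ∨ k = 1 by omega) with rfl | rfl | rfl | rfl
        · exact hcm _ _ (h1 7)
        · exact hcm _ _ (h1 8)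
        · exact hcm _ _ (h1 9)
        · exact hcm _ _ (h1 10)
      uy := ⟨μG c4, μzs _ hc4, by rw [← μcz, ← μcz, ← map_mul, ← map_mul]; exact heq _ _ (h1 11)⟩
      ux := by rw [← μcz]; exact hcm _ _ (h1 12)
      ux1 := by
        rw [← μcz, ← map_commutatorElement, heq _ _ (h1 13)]
        exact μzs _ hc6
      u2 := by
        rw [← μcz, heq _ _ (h1 14)]
        have := Subgroup.mem_map_of_mem μG hc15
        rw [MonoidHom.map_closure, hS15, Set.image_union, Set.image_union, image_range, image_range,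
          image_range] at this
        simp only [μcz, μZ] at this
        exact this
      up := by rw [← map_pow, heq _ _ (h1 15)]; exact μzs _ hc16
      ue := by
        rw [← μcz, heq _ _ (h1 16)]
        have := Subgroup.mem_map_of_mem μG hc17
        rw [Subgroup.map_sup, MonoidHom.map_closure, Set.image_image] at this
        simp only [μcz] at this
        have hle : (zsub H U).map μG ≤ zsub (μG H) (μG U) := by
          rintro _ ⟨c, hc, rfl⟩; exact μzs c hc
        exact (sup_le_sup_left hle _ :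
          closure ((fun k : ℕ => cz (μG H) (μG U) (m * k)) '' Set.Iio e) ⊔ (zsub H U).map μG ≤ _) this
      ze := by
        rw [← μZ, ← μcz, heq _ _ (h1 17)]
        have := Subgroup.mem_map_of_mem μG hc18
        rw [MonoidHom.map_closure, Set.image_image] at this
        simp only [μcz] at this
        exact this }
  let S : Setup F (PresentedGroup (↑rels : Set (FreeGroup (Fin 3)))) :=
    { u := μG U
      h := μG H
      w := μG W
      f := f
      t0 := D.t0
      q := q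
      N := q ^ 2 - 1
      N_pos := hR.N_pos
      hN := hR.hN
      ucard := by
        rw [D.card_par, ← hpe, ← pow_mul, mul_comm e]
        exact hR.card_u
      gen := by
        rw [eq_top_iff, ← PresentedGroup.closure_range_of (↑rels : Set (FreeGroup (Fin 3)))]
        refine closure_mono ?_
        rintro _ ⟨i, rfl⟩
        fin_cases i
        · exact Or.inl rfl
        · exact Or.inr (Or.inl rfl)
        · exact Or.inr (Or.inr rfl)
      fh := by rw [fμ, ψH]; rfl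
      fw := by rw [fμ, ψW]
      t0_gen := fun t => Subgroup.mem_zpowers_iff.1 (D.gen t)
      ww := by rw [← map_mul]; exact h1 2
      wh := by
        rw [zpow_neg, zpow_natCast, eq_inv_iff_mul_eq_one, ← map_pow, ← map_mul, ← map_mul, ← map_mul]
        exact h1 1
      fu := ⟨D.P1 1, by rw [fμ, ψU]; rfl⟩
      usurj := fun v => by
        obtain ⟨c, hc, ec⟩ := us v
        exact ⟨μG c, μus c hc, by rw [fμ, ec]⟩
      qcard := by rw [card_U3 D, D.card_par] }
  have hsdG : ∀ i : Fin 4, μG (W * V i * W) = μG (A i * H ^ kk i * W * B i) → S.Good (seed i) := by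
    intro i hi
    refine S.good_of_seed (x := μG (V i)) (μus _ (hV i)) (by show f (μG (V i)) = _; rw [fμ, eV]) ?_
    refine ⟨μG (A i), μus _ (hA i), μG (B i), μus _ (hB i), (kk i : ℤ), ?_⟩
    show μG W * μG (V i) * μG W = μG (A i) * μG H ^ (kk i : ℤ) * μG W * μG (B i)
    rw [zpow_natCast, ← map_pow, ← map_mul, ← map_mul, hi, map_mul, map_mul, map_mul]
  have hbij : Function.Bijective f := by
    refine S.bijective (D.good S rfl ?_ (hsdG 3 (heq _ _ (h1 21))))
    intro i hi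
    interval_cases i
    · rw [pow_zero]; exact hsdG 0 (heq _ _ (h1 18))
    · exact hsdG 1 (heq _ _ (h1 19))
    · exact hsdG 2 (heq _ _ (h1 20))
  exact ⟨MulEquiv.ofBijective f hbij, show f (μG H) = _ by rw [fμ, ψH]⟩

/-- One more relation presents the quotient by the normal closure of an element. -/
theorem quotient_pres {g r : ℕ} {G : Type*} [Group G] (rels : Finset (FreeGroup (Fin g)))
    (hc : rels.card ≤ r) (e : PresentedGroup (↑rels : Set (FreeGroup (Fin g))) ≃* G)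
    (z : G) (N : Subgroup G) [N.Normal] (hN : Subgroup.normalClosure {z} = N) :
    ∃ rels' : Finset (FreeGroup (Fin g)), rels'.card ≤ r + 1 ∧
      Nonempty (PresentedGroup (↑rels' : Set (FreeGroup (Fin g))) ≃* G ⧸ N) := by
  classical
  let qm : FreeGroup (Fin g) →* G := e.toMonoidHom.comp (PresentedGroup.mk _)
  have hqs : Function.Surjective qm := e.surjective.comp (PresentedGroup.mk_surjective _)
  obtain ⟨w, hw⟩ := hqs z
  let R := insert w rels
  let χ := (QuotientGroup.mk' N).comp qm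
  have hlift : FreeGroup.lift (fun i => χ (FreeGroup.of i)) = χ :=
    FreeGroup.ext_hom _ _ fun i => by simp
  have hf : ∀ v ∈ (↑R : Set (FreeGroup (Fin g))), FreeGroup.lift (fun i => χ (FreeGroup.of i)) v = 1 := by
    intro v hv
    rw [hlift]
    rcases Finset.mem_insert.1 (Finset.mem_coe.1 hv) with rfl | hv
    · show QuotientGroup.mk' N (qm v) = 1
      rw [hw, QuotientGroup.mk'_apply, QuotientGroup.eq_one_iff, ← hN]
      exact Subgroup.subset_normalClosure rfl
    · show QuotientGroup.mk' N (e (PresentedGroup.mk _ v)) = 1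
      rw [PresentedGroup.one_of_mem (Finset.mem_coe.2 hv), map_one, map_one]
  let π := PresentedGroup.toGroup hf
  have hsub : (↑rels : Set (FreeGroup (Fin g))) ⊆ ↑R := Finset.coe_subset.2 (Finset.subset_insert _ _)
  have hb : ∀ v ∈ (↑rels : Set (FreeGroup (Fin g))),
      FreeGroup.lift (fun i => (PresentedGroup.of i : PresentedGroup (↑R : Set (FreeGroup (Fin g))))) v = 1 := by
    intro v hv
    rw [show FreeGroup.lift (fun i => (PresentedGroup.of i : PresentedGroup (↑R : Set (FreeGroup (Fin g))))) =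
      PresentedGroup.mk _ from FreeGroup.ext_hom _ _ fun i => by simp; rfl]
    exact PresentedGroup.one_of_mem (hsub hv)
  let θ0 := (PresentedGroup.toGroup hb).comp e.symm.toMonoidHom
  have hθ0 : ∀ v, θ0 (qm v) = PresentedGroup.mk _ v := fun v => by
    show PresentedGroup.toGroup hb (e.symm (e _)) = _
    rw [e.symm_apply_apply]
    exact DFunLike.congr_fun (FreeGroup.ext_hom ((PresentedGroup.toGroup hb).comp (PresentedGroup.mk _))
      (PresentedGroup.mk _) fun i => PresentedGroup.toGroup.of hb) v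
  have hle : N ≤ θ0.ker := by
    rw [← hN]
    refine Subgroup.normalClosure_le_normal ?_
    rintro x (hx : x = z)
    show θ0 x = 1
    rw [hx, ← hw, hθ0]
    exact PresentedGroup.one_of_mem (Finset.mem_coe.2 (Finset.mem_insert_self _ _))
  let θ := QuotientGroup.lift N θ0 hle
  have h1 : θ.comp π = MonoidHom.id _ := PresentedGroup.ext fun i => by
    rw [MonoidHom.comp_apply, MonoidHom.id_apply, show π (PresentedGroup.of i) = χ (FreeGroup.of i) from
      PresentedGroup.toGroup.of hf]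
    show θ0 (qm (FreeGroup.of i)) = _
    rw [hθ0]; rfl
  have h2 : π.comp θ = MonoidHom.id _ := by
    refine MonoidHom.ext fun x => ?_
    obtain ⟨y, rfl⟩ := QuotientGroup.mk'_surjective N x
    obtain ⟨v, rfl⟩ := hqs y
    show π (θ0 (qm v)) = χ v
    rw [hθ0]
    exact DFunLike.congr_fun hlift v
  exact ⟨R, (Finset.card_insert_le _ _).trans (Nat.add_le_add_right hc 1), ⟨π.toMulEquiv θ h1 h2⟩⟩

/-- The centre of the model is cyclic inside the torus. -/
theorem center_cyclic (D : Prm F q) :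
    ∃ z : U3 F, Subgroup.normalClosure {z} = Subgroup.center (U3 F) := by
  have hle : Subgroup.center (U3 F) ≤ Subgroup.zpowers D.hM := by
    intro c hc
    have h1 := Subgroup.mem_center_iff.1 hc (nu (Par.sk D.c0 D.star_c0))
    have h2 := Subgroup.mem_center_iff.1 hc (wU : U3 F)
    obtain ⟨t, rfl⟩ := torus_of_commute c (Par.sk D.c0 D.star_c0) rfl D.c0_ne h1.symm h2.symm
    obtain ⟨k, rfl⟩ := Subgroup.mem_zpowers_iff.1 (D.gen t)
    refine Subgroup.mem_zpowers_iff.2 ⟨k, ?_⟩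
    rw [Prm.hM, ← dgHom_apply, ← dgHom_apply, map_zpow]
  have hcy : IsCyclic ((Subgroup.center (U3 F)).subgroupOf (Subgroup.zpowers D.hM)) := inferInstance
  obtain ⟨z, hz⟩ := @IsCyclic.exists_generator _ _ hcy
  refine ⟨(z.1 : U3 F), le_antisymm (Subgroup.normalClosure_le_normal ?_) ?_⟩
  · intro x (hx : x = (z.1 : U3 F))
    rw [hx]
    exact Subgroup.mem_subgroupOf.1 z.2
  · intro c hc
    obtain ⟨k, hk⟩ := Subgroup.mem_zpowers_iff.1
      (hz ⟨⟨c, hle hc⟩, Subgroup.mem_subgroupOf.2 hc⟩)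
    have h3 := congrArg (fun x : (Subgroup.center (U3 F)).subgroupOf (Subgroup.zpowers D.hM) =>
      ((x.1 : Subgroup.zpowers D.hM) : U3 F)) hk
    simp only [Subgroup.coe_zpow] at h3
    rw [← h3]
    exact zpow_mem (Subgroup.subset_normalClosure (Set.mem_singleton (z.1 : U3 F))) k

end Cfsg.Agent.Small.SU3Pres
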