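import Cfsg.Agent.Lib.Small.SU3Pres.Main

/-!
A short presentation of the three-dimensional special unitary group over the field with nine elements.
-/

set_option autoImplicit false
set_option linter.unusedSectionVars false
set_option linter.style.haveILetI false

namespace Cfsg.Agent.Small.SU3Pres

open Subgroup
open scoped commutatorElement

variable {F : Type*} [Field F] [StarRing F] [Fintype F]

/-- A subgroup on three elements of order three modulo a central one. -/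
theorem card_heis {G : Type*} [Group G] {u v z : G} (hz : z = ⁅u, v⁆) (huz : Commute u z) (hvz : Commute v z)
    (hz3 : z ^ 3 = 1) (hu : u ^ 3 ∈ zpowers z) (hv : v ^ 3 ∈ zpowers z) :
    Finite (closure ({u, v, z} : Set G)) ∧ Nat.card (closure ({u, v, z} : Set G)) ≤ 27 := by
  have hfz : IsOfFinOrder z := isOfFinOrder_iff_pow_eq_one.2 ⟨3, by norm_num, hz3⟩
  haveI : Finite (zpowers z) := finite_zpowers.2 hfz
  have c1 : Nat.card (zpowers z) ≤ 3 := by
    rw [Nat.card_zpowers]; exact Nat.le_of_dvd (by norm_num) (orderOf_dvd_of_pow_eq_one hz3)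
  obtain ⟨hf, hc⟩ := card_extend (zpowers z) u (p := 3) (by norm_num) (fun a ha => by
    obtain ⟨k, rfl⟩ := mem_zpowers_iff.1 ha
    rw [(huz.zpow_right k).eq, mul_inv_cancel_right]
    exact zpow_mem_zpowers z k) hu
  set K := zpowers z ⊔ closure {u} with hK
  obtain ⟨hf', hc'⟩ := card_extend K v (p := 3) (by norm_num) (fun a ha => by
    have hle : K ≤ K.comap (MulAut.conj v).toMonoidHom := by
      refine sup_le (zpowers_le.2 ?_) ((Subgroup.closure_le _).2 (Set.singleton_subset_iff.2 ?_))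
      · show v * z * v⁻¹ ∈ K
        rw [hvz.eq, mul_inv_cancel_right]
        exact mem_sup_left (mem_zpowers z)
      · show v * u * v⁻¹ ∈ K
        rw [show v * u * v⁻¹ = ⁅u, v⁆⁻¹ * u by simp only [commutatorElement_def]; group, ← hz]
        exact mul_mem (mem_sup_left (inv_mem (mem_zpowers z))) (mem_sup_right (subset_closure rfl))
    exact hle ha) (mem_sup_left hv)
  have e : closure ({u, v, z} : Set G) = K ⊔ closure {v} := by
    rw [hK, zpowers_eq_closure, ← Subgroup.closure_union, ← Subgroup.closure_union]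
    congr 1
    ext x
    simp only [Set.mem_insert_iff, Set.mem_singleton_iff, Set.mem_union]
    tauto
  rw [e]
  exact ⟨hf', hc'.trans ((Nat.mul_le_mul_right 3 (hc.trans (Nat.mul_le_mul_right 3 c1))).trans (by norm_num))⟩

namespace Prm

variable (D : Prm F 3)

theorem g_pm (k : ℕ) : D.g ^ k = 1 ∨ D.g ^ k = -1 := by
  have h2 : D.g ^ (3 - 1) = 1 := D.g_pow_qsub
  exact sq_eq_one_iff.1 (by rw [← pow_mul, mul_comm, pow_mul, h2, one_pow])

/-- The centre of the radical is cyclic. -/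
theorem center_zpowers {v : Par F} (hv : v.a = 0) : nu v ∈ zpowers (zel D.hM D.uM) := by
  refine (closure_le _).2 ?_ (D.mem_zsub v hv)
  rintro _ ⟨k, rfl⟩
  rw [SetLike.mem_coe, cz_period (N := 3 ^ 2 - 1) D.hM_pow]
  obtain ⟨j, hj⟩ : ∃ j : ℕ, (j : ℤ) = k % ((3 ^ 2 - 1 : ℕ) : ℤ) :=
    ⟨_, Int.toNat_of_nonneg (Int.emod_nonneg _ (by norm_num))⟩
  rw [← hj]
  obtain ⟨s, hs, es, e⟩ := D.cz_z j
  rw [e]
  rcases D.g_pm j with h | h
  · rw [D.zel_model, show Par.sk s hs = Par.sk D.c0 D.star_c0 from Par.ext' rfl (by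
      show s = D.c0; rw [es, h, one_mul])]
    exact mem_zpowers _
  · rw [show nu (Par.sk s hs) = (zel D.hM D.uM)⁻¹ from ?_]
    · exact inv_mem (mem_zpowers _)
    rw [D.zel_model, nu_inv]
    refine congrArg nu (Par.ext' (by simp [Par.sk, Par.neg]) ?_)
    show s = star D.c0
    rw [es, h, D.star_c0, neg_one_mul]

/-- Three elements generate the radical. -/
theorem mem_three (v : Par F) : nu v ∈ closure ({D.uM, cz D.hM D.uM 1, zel D.hM D.uM} : Set (U3 F)) := by
  set K := closure ({D.uM, cz D.hM D.uM 1, zel D.hM D.uM} : Set (U3 F))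
  have hz : zel D.hM D.uM ∈ K := subset_closure (by simp)
  have hZ : zsub D.hM D.uM ≤ K := (closure_le _).2 (by
    rintro _ ⟨k, rfl⟩
    have h1 : cz D.hM (zel D.hM D.uM) k ∈ zsub D.hM D.uM := subset_closure ⟨k, rfl⟩
    rw [cz_period (N := 3 ^ 2 - 1) D.hM_pow] at h1 ⊢
    obtain ⟨j, hj⟩ : ∃ j : ℕ, (j : ℤ) = k % ((3 ^ 2 - 1 : ℕ) : ℤ) :=
      ⟨_, Int.toNat_of_nonneg (Int.emod_nonneg _ (by norm_num))⟩
    rw [← hj]
    obtain ⟨s, hs, -, e⟩ := D.cz_z j
    rw [SetLike.mem_coe, e]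
    exact (zpowers_le.2 hz) (D.center_zpowers rfl))
  refine D.full_of_aset K hZ v ?_
  have h1 : (1 : F) ∈ aset K := ⟨D.P1 1, rfl, subset_closure (Or.inl rfl)⟩
  have hm : D.mu ∈ aset K := by
    obtain ⟨w, e, a⟩ := D.exists_cz_u 1
    refine ⟨w, by rw [a, pow_one], ?_⟩
    rw [← e]
    exact subset_closure (Or.inr (Or.inl rfl))
  obtain ⟨r, s, hr, hs, e⟩ := D.decomp v.a
  rw [e]
  refine add_mem ?_ ?_
  · by_cases h0 : r = 0
    · rw [h0]; exact zero_mem _
    · obtain ⟨n, rfl⟩ := D.fixed_pow h0 hr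
      rcases D.g_pm n with h | h <;> rw [h]
      exacts [h1, neg_mem h1]
  · by_cases h0 : s = 0
    · rw [h0, mul_zero]; exact zero_mem _
    · obtain ⟨n, rfl⟩ := D.fixed_pow h0 hs
      rcases D.g_pm n with h | h <;> rw [h]
      exacts [by rwa [mul_one], by rw [mul_neg_one]; exact neg_mem hm]

end Prm

open scoped _root_.Classical in
set_option maxHeartbeats 1000000 in
/-- The presentation of the model. -/
theorem presentation_three (D : Prm F 3) :
    ∃ rels : Finset (FreeGroup (Fin 3)), rels.card ≤ 13 ∧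
      Nonempty (PresentedGroup (↑rels : Set (FreeGroup (Fin 3))) ≃* U3 F) := by
  set U : FreeGroup (Fin 3) := FreeGroup.of 0 with hU
  set H : FreeGroup (Fin 3) := FreeGroup.of 1 with hH
  set W : FreeGroup (Fin 3) := FreeGroup.of 2 with hW
  let ψ : FreeGroup (Fin 3) →* U3 F := FreeGroup.lift ![D.uM, D.hM, wU]
  have ψU : ψ U = D.uM := by simp [ψ, hU]
  have ψH : ψ H = D.hM := by simp [ψ, hH]
  have ψW : ψ W = wU := by simp [ψ, hW]
  have ψcz : ∀ (v : FreeGroup (Fin 3)) (k : ℤ), ψ (cz H v k) = cz D.hM (ψ v) k := fun v k => by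
    rw [map_cz, ψH]
  set Z := zel H U with hZ
  have ψZ : ψ Z = zel D.hM D.uM := by
    simp only [hZ, zel, map_commutatorElement, ψcz, ψU]
  set U₁ := cz H U 1 with hU₁
  have ψU₁ : ψ U₁ = cz D.hM D.uM 1 := by rw [hU₁, ψcz, ψU]
  have us : ∀ v : Par F, ∃ c ∈ closure ({U, U₁, Z} : Set (FreeGroup (Fin 3))), ψ c = nu v := by
    intro v
    refine exists_word ψ _ ?_
    rw [Set.image_insert_eq, Set.image_pair, ψU, ψU₁, ψZ]
    exact D.mem_three v
  have zs : ∀ v : Par F, v.a = 0 → ∃ j : ℤ, ψ (Z ^ j) = nu v := fun v hv => by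
    obtain ⟨j, hj⟩ := mem_zpowers_iff.1 (D.center_zpowers hv)
    exact ⟨j, by rw [map_zpow, ψZ, hj]⟩
  have three : (3 : F) = 0 := by
    obtain ⟨p, hp⟩ := CharP.exists F
    haveI := hp
    obtain ⟨k, hp', hk⟩ := FiniteField.card F p
    rw [D.hF] at hk
    have : p ∣ 3 ^ 2 := hk ▸ dvd_pow_self p k.ne_zero
    have := (Nat.prime_dvd_prime_iff_eq hp' Nat.prime_three).1 (hp'.dvd_of_dvd_pow this)
    subst this
    exact_mod_cast CharP.cast_eq_zero F 3
  have cube : ∀ x : FreeGroup (Fin 3), ∀ v : Par F, ψ x = nu v → ∃ j : ℤ, ψ (x ^ 3) = ψ (Z ^ j) := by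
    intro x v hx
    obtain ⟨w, hw, aw⟩ := Prm.pow_a v 3
    obtain ⟨j, hj⟩ := zs w (by rw [aw]; push_cast; rw [three, zero_mul])
    exact ⟨j, by rw [map_pow, hx, hw, hj]⟩
  obtain ⟨v1, hv1, -⟩ := D.exists_cz_u 1
  obtain ⟨v2, hv2, -⟩ := D.exists_cz_u 2
  obtain ⟨j4, e4⟩ := cube U (D.P1 1) (by rw [ψU]; rfl)
  obtain ⟨j5, e5⟩ := cube U₁ v1 (by rw [ψU₁]; exact_mod_cast hv1)
  obtain ⟨c6, hc6, e6⟩ := us v2
  -- the seeds
  let v19 : Par F := Par.sk D.c0 D.star_c0
  let seed : Fin 4 → Par F := ![D.P1 1, D.P1 ((D.t0 : F) ^ 1), D.P1 ((D.t0 : F) ^ 2), v19]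
  have hseedb : ∀ i, (seed i).b ≠ 0 := by
    intro i
    fin_cases i
    · exact Par.b_ne_zero (show (1 : F) ≠ 0 from one_ne_zero)
    · exact Par.b_ne_zero (show (D.t0 : F) ^ 1 ≠ 0 from pow_ne_zero _ D.t0_ne)
    · exact Par.b_ne_zero (show (D.t0 : F) ^ 2 ≠ 0 from pow_ne_zero _ D.t0_ne)
    · exact D.c0_ne
  have hsd : ∀ i, ∃ V ∈ closure ({U, U₁, Z} : Set (FreeGroup (Fin 3))),
      ∃ A ∈ closure ({U, U₁, Z} : Set (FreeGroup (Fin 3))),
      ∃ B ∈ closure ({U, U₁, Z} : Set (FreeGroup (Fin 3))), ∃ k : ℕ,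
      ψ V = nu (seed i) ∧ ψ (W * V * W) = ψ (A * H ^ k * W * B) := by
    intro i
    obtain ⟨V, hV, eV⟩ := us (seed i)
    obtain ⟨A, hA, eA⟩ := us ((seed i).lf (hseedb i))
    obtain ⟨B, hB, eB⟩ := us ((seed i).rf (hseedb i))
    obtain ⟨k, hk⟩ := mem_powers_iff_mem_zpowers.2 (D.gen ((seed i).tf (hseedb i)))
    refine ⟨V, hV, A, hA, B, hB, k, eV, ?_⟩
    simp only [map_mul, map_pow, ψW, ψH, eV, eA, eB]
    rw [wU_nu_wU _ (hseedb i), ← hk, Prm.hM, ← dgHom_apply, ← dgHom_apply, map_pow]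
  choose V hV A hA B hB kk eV eS using hsd
  let r : Fin 13 → FreeGroup (Fin 3) :=
    ![H ^ (3 ^ 2 - 1), W * H * W * H ^ 3, W * W, ⁅U, Z⁆, ⁅U₁, Z⁆, Z ^ 3,
      U ^ 3 * (Z ^ j4)⁻¹, U₁ ^ 3 * (Z ^ j5)⁻¹, cz H U 2 * c6⁻¹,
      W * V 0 * W * (A 0 * H ^ kk 0 * W * B 0)⁻¹,
      W * V 1 * W * (A 1 * H ^ kk 1 * W * B 1)⁻¹,
      W * V 2 * W * (A 2 * H ^ kk 2 * W * B 2)⁻¹,
      W * V 3 * W * (A 3 * H ^ kk 3 * W * B 3)⁻¹]
  let rels : Finset (FreeGroup (Fin 3)) := Finset.univ.image r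
  refine ⟨rels, Finset.card_image_le.trans (by simp), ?_⟩
  have hdiv : ∀ a b : FreeGroup (Fin 3), ψ a = ψ b → ψ (a * b⁻¹) = 1 := fun a b h => by
    rw [map_mul, map_inv, h, mul_inv_cancel]
  have hcomm : ∀ a b : FreeGroup (Fin 3), Commute (ψ a) (ψ b) → ψ ⁅a, b⁆ = 1 := fun a b h => by
    rw [map_commutatorElement, commutatorElement_eq_one_iff_commute.2 h]
  have hψ : ∀ i, ψ (r i) = 1 := by
    intro i
    fin_cases i
    · show ψ (H ^ (3 ^ 2 - 1)) = 1
      rw [map_pow, ψH, D.hM_pow]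
    · show ψ (W * H * W * H ^ 3) = 1
      rw [map_mul, map_mul, map_mul, map_pow, ψH, ψW, Prm.hM, wU_dgU, ← dgHom_apply,
        ← dgHom_apply, ← map_pow, ← map_mul, ← map_one (dgHom (F := F))]
      congr 1
      refine Units.ext ?_
      rw [Units.val_mul, Units.val_pow_eq_pow_val, ← D.hstar, Units.val_one]
      exact inv_mul_cancel₀ (star_ne_zero.2 D.t0_ne)
    · show ψ (W * W) = 1
      rw [map_mul, ψW, wU_sq]
    · refine hcomm _ _ ?_
      rw [ψU, ψZ, D.zel_model]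
      exact (central_commute _ _ rfl).symm
    · refine hcomm _ _ ?_
      rw [ψU₁, ψZ, D.zel_model, show cz D.hM D.uM 1 = nu v1 from by exact_mod_cast hv1]
      exact (central_commute _ _ rfl).symm
    · show ψ (Z ^ 3) = 1
      rw [map_pow, ψZ, D.zel_model, pow_succ, pow_two, nu_mul, nu_mul, ← nu_zero]
      refine congrArg nu (Par.ext' ?_ ?_)
      · simp [Par.pm, Par.sk, Par.zp]
      · simp [Par.pm, Par.sk, Par.zp]
        linear_combination D.c0 * three
    · exact hdiv _ _ e4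
    · exact hdiv _ _ e5
    · refine hdiv _ _ ?_
      rw [e6, ψcz, ψU]
      exact_mod_cast hv2
    · exact hdiv _ _ (eS 0)
    · exact hdiv _ _ (eS 1)
    · exact hdiv _ _ (eS 2)
    · exact hdiv _ _ (eS 3)
  have hrels : ∀ x ∈ (↑rels : Set (FreeGroup (Fin 3))), FreeGroup.lift ![D.uM, D.hM, wU] x = 1 := by
    intro x hx
    obtain ⟨i, -, rfl⟩ := Finset.mem_image.1 (Finset.mem_coe.1 hx)
    exact hψ i
  let μG := PresentedGroup.mk (↑rels : Set (FreeGroup (Fin 3)))
  let f := PresentedGroup.toGroup hrels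
  have fμ : ∀ x, f (μG x) = ψ x := fun x => rfl
  have h1 : ∀ i : Fin 13, μG (r i) = 1 := fun i =>
    PresentedGroup.one_of_mem (Finset.mem_coe.2 (Finset.mem_image_of_mem r (Finset.mem_univ i)))
  have heq : ∀ a b, μG (a * b⁻¹) = 1 → μG a = μG b := fun a b h => by
    rwa [map_mul, map_inv, mul_inv_eq_one] at h
  have hcm : ∀ a b, μG ⁅a, b⁆ = 1 → Commute (μG a) (μG b) := fun a b h => by
    rwa [map_commutatorElement, commutatorElement_eq_one_iff_commute] at h
  have μcz : ∀ v k, μG (cz H v k) = cz (μG H) (μG v) k := fun v k => map_cz μG H v k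
  set h := μG H with hh
  set u := μG U with hu
  set u₁ := cz h u 1 with hu₁
  set z := zel h u with hz
  have eU₁ : μG U₁ = u₁ := μcz U 1
  have eZ : μG Z = z := by simp only [hZ, hz, zel, map_commutatorElement, μcz, ← hu]
  set K := closure ({u, u₁, z} : Set (PresentedGroup (↑rels : Set (FreeGroup (Fin 3))))) with hK
  have μK : ∀ c ∈ closure ({U, U₁, Z} : Set (FreeGroup (Fin 3))), μG c ∈ K := by
    intro c hc
    have := Subgroup.mem_map_of_mem μG hc
    rwa [MonoidHom.map_closure, Set.image_insert_eq, Set.image_pair, eU₁, eZ] at this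
  have hN : h ^ (3 ^ 2 - 1) = 1 := by rw [hh, ← map_pow]; exact h1 0
  have hu0 : u ∈ usub h u := subset_closure ⟨0, cz_zero h u⟩
  have hu10 : u₁ ∈ usub h u := subset_closure ⟨1, rfl⟩
  have hz0 : z ∈ usub h u := by
    rw [hz, zel, commutatorElement_def]
    exact mul_mem (mul_mem (mul_mem hu0 hu10) (inv_mem hu0)) (inv_mem hu10)
  have hu2 : cz h u 2 ∈ K := by
    rw [hh, hu, ← μcz, heq _ _ (h1 8)]
    exact μK c6 hc6
  have hKu : usub h u = K := by
    refine le_antisymm ((closure_le _).2 ?_) ((closure_le _).2 ?_)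
    swap
    · rintro x (rfl | rfl | rfl)
      exacts [hu0, hu10, hz0]
    have hst : ∀ v ∈ K, cz h v 1 ∈ K := fun v hv => by
      refine cz_mem_closure ?_ hv
      rintro x (rfl | rfl | rfl)
      · exact subset_closure (Or.inr (Or.inl rfl))
      · rw [cz_cz]; exact hu2
      · rw [hz, zel, cz_comm, cz_cz]
        have a1 : u₁ ∈ K := subset_closure (Or.inr (Or.inl rfl))
        rw [commutatorElement_def]
        exact mul_mem (mul_mem (mul_mem a1 hu2) (inv_mem a1)) (inv_mem hu2)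
    have hk : ∀ k : ℕ, cz h u k ∈ K := by
      intro k
      induction k with
      | zero => rw [Nat.cast_zero, cz_zero]; exact subset_closure (Or.inl rfl)
      | succ k ih =>
        have := hst _ ih
        rwa [cz_cz, add_comm, ← Nat.cast_succ] at this
    rintro _ ⟨j, rfl⟩
    rw [SetLike.mem_coe, cz_period hN]
    have h0 : 0 ≤ j % (((3 ^ 2 - 1 : ℕ)) : ℤ) := Int.emod_nonneg _ (by norm_num)
    have := hk (j % (((3 ^ 2 - 1 : ℕ)) : ℤ)).toNat
    rwa [Int.toNat_of_nonneg h0] at this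
  have hcard : Finite K ∧ Nat.card K ≤ 27 := by
    refine card_heis hz ?_ ?_ ?_ ?_ ?_
    · rw [hu, ← eZ]; exact hcm _ _ (h1 3)
    · rw [← eU₁, ← eZ]; exact hcm _ _ (h1 4)
    · rw [← eZ, ← map_pow]; exact h1 5
    · rw [hu, ← map_pow, heq _ _ (h1 6), map_zpow, eZ]; exact zpow_mem_zpowers _ _
    · rw [← eU₁, ← map_pow, heq _ _ (h1 7), map_zpow, eZ]; exact zpow_mem_zpowers _ _
  let S : Setup F (PresentedGroup (↑rels : Set (FreeGroup (Fin 3)))) :=
    { u := u
      h := h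
      w := μG W
      f := f
      t0 := D.t0
      q := 3
      N := 3 ^ 2 - 1
      N_pos := by norm_num
      hN := hN
      ucard := by
        rw [D.card_par, hKu]
        exact hcard
      gen := by
        rw [eq_top_iff, ← PresentedGroup.closure_range_of (↑rels : Set (FreeGroup (Fin 3)))]
        refine closure_mono ?_
        rintro _ ⟨i, rfl⟩
        fin_cases i
        · exact Or.inl rfl
        · exact Or.inr (Or.inl rfl)
        · exact Or.inr (Or.inr rfl)
      fh := by rw [hh, fμ, ψH]; rfl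
      fw := by rw [fμ, ψW]
      t0_gen := fun t => Subgroup.mem_zpowers_iff.1 (D.gen t)
      ww := by rw [← map_mul]; exact h1 2
      wh := by
        rw [zpow_neg, zpow_natCast, eq_inv_iff_mul_eq_one, hh, ← map_pow, ← map_mul, ← map_mul, ← map_mul]
        exact h1 1
      fu := ⟨D.P1 1, by rw [hu, fμ, ψU]; rfl⟩
      usurj := fun v => by
        obtain ⟨c, hc, ec⟩ := us v
        exact ⟨μG c, hKu ▸ μK c hc, by rw [fμ, ec]⟩
      qcard := by rw [card_U3 D, D.card_par] }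
  have hsdG : ∀ i : Fin 4, μG (W * V i * W) = μG (A i * H ^ kk i * W * B i) → S.Good (seed i) := by
    intro i hi
    refine S.good_of_seed (x := μG (V i)) (hKu ▸ μK _ (hV i)) (by show f (μG (V i)) = _; rw [fμ, eV]) ?_
    refine ⟨μG (A i), hKu ▸ μK _ (hA i), μG (B i), hKu ▸ μK _ (hB i), (kk i : ℤ), ?_⟩
    show μG W * μG (V i) * μG W = μG (A i) * μG H ^ (kk i : ℤ) * μG W * μG (B i)
    rw [zpow_natCast, ← map_pow, ← map_mul, ← map_mul, hi, map_mul, map_mul, map_mul]
  have hbij : Function.Bijective f := by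
    refine S.bijective (D.good S rfl ?_ (hsdG 3 (heq _ _ (h1 12))))
    intro i hi
    interval_cases i
    · rw [pow_zero]; exact hsdG 0 (heq _ _ (h1 9))
    · exact hsdG 1 (heq _ _ (h1 10))
    · exact hsdG 2 (heq _ _ (h1 11))
  exact ⟨MulEquiv.ofBijective f hbij⟩

end Cfsg.Agent.Small.SU3Pres
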